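import Cfsg.Agent.Lib.CharTheory.Irr
import Cfsg.Agent.Lib.CharTheory.Linear
import Cfsg.Agent.Lib.CharTheory.Degree
import Cfsg.Agent.Lib.CharTheory.More
import Cfsg.Agent.Lib.CharTheory.Integral

/-!
# Complex representations of small degree and elements of prime order

The exponents induced on an element of order `p` have order at most the degree, and in degree below
`p - 1` an element of order `p` centralises every normalised `p'`-subgroup.
-/

namespace CfsgLib.SmallRep

open Cfsg CfsgLib.CharTheory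
open scoped ComplexConjugate

set_option linter.unusedSectionVars false
set_option linter.style.haveILetI false

variable {G : Type*} [Group G] [Finite G] {p : ℕ} [hp : Fact p.Prime] {f : ℕ}
  {R : Representation ℂ G (Fin f → ℂ)}

/-- The induced exponents have order at most the degree. -/
theorem orderOf_exponent_le {x n : G} (hRx : R x ≠ 1) (hx : orderOf x = p) {j : ℕ}
    (hn : n * x * n⁻¹ = x ^ j) : orderOf (j : ZMod p) ≤ f := by
  classical
  have hj0 : (j : ZMod p) ≠ 0 := by
    rw [Ne, ZMod.natCast_eq_zero_iff]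
    rintro ⟨l, rfl⟩
    rw [pow_mul, ← hx, pow_orderOf_eq_one, one_pow, mul_inv_eq_one, mul_eq_left] at hn
    rw [hn, orderOf_one] at hx
    exact hp.out.one_lt.ne hx
  have hAp : R x ^ p = 1 := by rw [← map_pow, ← hx, pow_orderOf_eq_one, map_one]
  obtain ⟨ζ, hζ⟩ : ∃ ζ : ℂ, IsPrimitiveRoot ζ p :=
    ⟨_, Complex.isPrimitiveRoot_exp p hp.out.ne_zero⟩
  obtain ⟨μ, hμp, hμ1, hμ⟩ : ∃ μ : ℂ, μ ^ p = 1 ∧ μ ≠ 1 ∧
      Module.End.HasEigenvalue (R x) μ := by
    by_contra hno
    push Not at hno
    have h1 : Polynomial.aeval (R x) (Polynomial.X ^ p - 1 : Polynomial ℂ) = 0 := by simp [hAp]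
    have h1m : (1 : ℂ) ∈ Polynomial.nthRootsFinset p (1 : ℂ) := by
      rw [Polynomial.mem_nthRootsFinset hp.out.pos, one_pow]
    rw [Polynomial.X_pow_sub_one_eq_prod hp.out.pos hζ, ← Finset.mul_prod_erase _ _ h1m,
      map_mul] at h1
    have hu : IsUnit (Polynomial.aeval (R x) (∏ y ∈ (Polynomial.nthRootsFinset p (1 : ℂ)).erase 1,
        (Polynomial.X - Polynomial.C y))) := by
      refine Finset.prod_induction _ (fun q => IsUnit (Polynomial.aeval (R x) q))
        (fun a b ha hb => by rw [map_mul]; exact ha.mul hb) (by simp) fun y hy => ?_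
      rw [map_sub, Polynomial.aeval_X, Polynomial.aeval_C]
      rw [Finset.mem_erase, Polynomial.mem_nthRootsFinset hp.out.pos] at hy
      have := hno y hy.2 hy.1
      rw [Module.End.hasEigenvalue_iff_mem_spectrum, spectrum.mem_iff, not_not,
        IsUnit.sub_iff] at this
      exact this
    have h2 := hu.mul_left_eq_zero.1 h1
    rw [map_sub, Polynomial.aeval_X, Polynomial.aeval_C, map_one, sub_eq_zero] at h2
    exact hRx h2
  have hnext : ∀ c : ℂ, Module.End.HasEigenvalue (R x) c →
      Module.End.HasEigenvalue (R x) (c ^ j) := by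
    intro c hc
    obtain ⟨v, hv⟩ := hc.exists_hasEigenvector
    refine Module.End.hasEigenvalue_of_hasEigenvector (x := R n⁻¹ v) ⟨?_, fun h0 => hv.2 ?_⟩
    · rw [Module.End.mem_eigenspace_iff, ← Module.End.mul_apply, ← map_mul,
        show x * n⁻¹ = n⁻¹ * (n * x * n⁻¹) by group, hn, map_mul, map_pow, Module.End.mul_apply,
        hv.pow_apply, map_smul]
    · have := congrArg (R n) h0
      rwa [← Module.End.mul_apply, ← map_mul, mul_inv_cancel, map_one, map_zero] at this
  have hall : ∀ i : ℕ, Module.End.HasEigenvalue (R x) (μ ^ j ^ i) := fun i => by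
    induction i with
    | zero => simpa using hμ
    | succ i ih => rw [pow_succ, pow_mul]; exact hnext _ ih
  by_contra hlt
  push Not at hlt
  have hinj : Function.Injective (fun i : Fin (f + 1) => μ ^ j ^ (i : ℕ)) := by
    intro a b hab
    have ho : orderOf μ = p := orderOf_eq_prime hμp hμ1
    have h2 : (μ ^ j ^ (a : ℕ)) = μ ^ j ^ (b : ℕ) := hab
    have hμ0 : μ ≠ 0 := fun h0 => by simp [h0, hp.out.ne_zero] at hμp
    have h3 : (Units.mk0 μ hμ0) ^ j ^ (a : ℕ) = (Units.mk0 μ hμ0) ^ j ^ (b : ℕ) :=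
      Units.ext (by simpa using h2)
    rw [pow_eq_pow_iff_modEq, ← orderOf_units, Units.val_mk0, ho,
      ← ZMod.natCast_eq_natCast_iff, Nat.cast_pow, Nat.cast_pow] at h3
    exact Fin.ext (pow_injOn_Iio_orderOf (Set.mem_Iio.2 (by omega)) (Set.mem_Iio.2 (by omega)) h3)
  choose v hv using fun i : Fin (f + 1) => (hall i).exists_hasEigenvector
  have hli := Module.End.eigenvectors_linearIndependent' (R x) _ hinj v hv
  have := hli.fintype_card_le_finrank
  simp at this

variable {K : Subgroup G} {x : G}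

/-- Counting over the fixed points of a permutation of order `p`. -/
theorem dvd_sum_sub {X : Type*} [Fintype X] [DecidableEq X] (σ : Equiv.Perm X) (hσ : σ ^ p = 1)
    (F : X → ℂ) (hF : ∀ x, F (σ x) = F x) (hint : ∀ x, IsIntegral ℤ (F x)) :
    ∃ z : ℂ, IsIntegral ℤ z ∧
      ∑ x, F x - ∑ x ∈ Finset.univ.filter (fun x => σ x = x), F x = (p : ℂ) * z := by
  classical
  have hcong : ∀ c : ℂ, ∃ m : ℤ,
      ((Finset.univ.filter fun x => F x = c).card : ℤ) -
        ((Finset.univ.filter fun x => σ x = x ∧ F x = c).card : ℤ) = p * m := by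
    intro c
    let τ : Equiv.Perm {x // F x = c} := σ.subtypePerm fun x => by rw [hF]
    have hτ : τ ^ p ^ 1 = 1 := by
      rw [pow_one, Equiv.Perm.subtypePerm_pow]
      refine Equiv.ext fun y => Subtype.ext ?_
      simp [hσ]
    have h := Equiv.Perm.card_compl_support_modEq hτ
    rw [Fintype.card_subtype] at h
    have e : (τ.supportᶜ).card = (Finset.univ.filter fun x => σ x = x ∧ F x = c).card := by
      refine Finset.card_bij (fun y _ => (y : X)) (fun y hy => ?_)
        (fun a _ b _ h => Subtype.ext h) (fun b hb => ?_)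
      · rw [Finset.mem_compl, Equiv.Perm.mem_support, not_not] at hy
        exact Finset.mem_filter.2 ⟨Finset.mem_univ _, congrArg Subtype.val hy, y.2⟩
      · obtain ⟨-, hb1, hb2⟩ := Finset.mem_filter.1 hb
        exact ⟨⟨b, hb2⟩, by
          rw [Finset.mem_compl, Equiv.Perm.mem_support, not_not]; exact Subtype.ext hb1, rfl⟩
    rw [e] at h
    obtain ⟨m, hm⟩ := (Nat.modEq_iff_dvd.1 h)
    exact ⟨m, hm⟩
  choose m hm using hcong
  refine ⟨∑ c ∈ Finset.univ.image F, (m c : ℂ) * c, IsIntegral.sum _ fun c hc => ?_, ?_⟩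
  · obtain ⟨y, -, rfl⟩ := Finset.mem_image.1 hc
    exact (isIntegral_algebraMap (x := m (F y))).mul (hint y)
  · rw [← Finset.sum_fiberwise_of_maps_to (g := F) (t := Finset.univ.image F)
      (fun y _ => Finset.mem_image_of_mem F (Finset.mem_univ y)) F,
      ← Finset.sum_fiberwise_of_maps_to (g := F) (t := Finset.univ.image F)
      (s := Finset.univ.filter fun x => σ x = x)
      (fun y _ => Finset.mem_image_of_mem F (Finset.mem_univ y)) F,
      ← Finset.sum_sub_distrib, Finset.mul_sum]
    refine Finset.sum_congr rfl fun c _ => ?_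
    rw [Finset.sum_congr rfl (fun y hy => (Finset.mem_filter.1 hy).2),
      Finset.sum_congr rfl (fun y hy => (Finset.mem_filter.1 hy).2), Finset.sum_const,
      Finset.sum_const, nsmul_eq_mul, nsmul_eq_mul, Finset.filter_filter, ← sub_mul, ← mul_assoc]
    congr 1
    exact_mod_cast hm c

theorem exists_invariant_sylow {q : ℕ} [Fact q.Prime] (hK : ¬ p ∣ Nat.card K)
    (hx : x ^ p = 1) (hn : ∀ k ∈ K, x * k * x⁻¹ ∈ K) :
    ∃ Q : Subgroup G, Q ≤ K ∧ IsPGroup q Q ∧
      Nat.card Q = q ^ (Nat.card K).factorization q ∧ ∀ k ∈ Q, x * k * x⁻¹ ∈ Q := by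
  have hxN : x ∈ Subgroup.normalizer (K : Set G) := by
    rw [Subgroup.mem_normalizer_iff_map_conj_eq]
    refine Subgroup.eq_of_le_of_card_ge ?_
      (Subgroup.card_map_of_injective (MulAut.conj x).injective).ge
    rintro _ ⟨k, hk, rfl⟩
    exact hn k hk
  have hPN : Subgroup.zpowers x ≤ Subgroup.normalizer (K : Set G) := Subgroup.zpowers_le.2 hxN
  let φ : Subgroup.zpowers x →* MulAut K :=
    K.normalizerMonoidHom.comp (Subgroup.inclusion hPN)
  letI : MulDistribMulAction (Subgroup.zpowers x) K := MulDistribMulAction.compHom K φ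
  have hPg : IsPGroup p (Subgroup.zpowers x) := by
    obtain ⟨i, -, hi⟩ := (Nat.dvd_prime_pow hp.out).1
      (show orderOf x ∣ p ^ 1 by rw [pow_one]; exact orderOf_dvd_of_pow_eq_one hx)
    exact IsPGroup.of_card (n := i) (by rw [Nat.card_zpowers, hi])
  have hcount : ¬ p ∣ Nat.card (Sylow q K) := fun h =>
    hK (h.trans ((Sylow.card_dvd_index default).trans (Subgroup.index_dvd_card _)))
  obtain ⟨S, hS⟩ := hPg.nonempty_fixed_point_of_prime_not_dvd_card (Sylow q K) hcount
  refine ⟨(S : Subgroup K).map K.subtype, Subgroup.map_subtype_le _, S.isPGroup'.map _, ?_, ?_⟩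
  · rw [Subgroup.card_map_of_injective K.subtype_injective, S.card_eq_multiplicity]
  · rintro _ ⟨k, hk, rfl⟩
    have h1 : (⟨x, Subgroup.mem_zpowers x⟩ : Subgroup.zpowers x) • k ∈
        (((⟨x, Subgroup.mem_zpowers x⟩ : Subgroup.zpowers x) • S : Sylow q K) : Subgroup K) :=
      Set.smul_mem_smul_set hk
    rw [hS ⟨x, Subgroup.mem_zpowers x⟩] at h1
    exact ⟨_, h1, rfl⟩

/-- Descent along invariant subgroups. -/
theorem commute_of_small (hR : Function.Injective R) (hx : x ^ p = 1) (hf : f + 1 < p) :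
    ∀ (m : ℕ) (K : Subgroup G), Nat.card K = m → ¬ p ∣ Nat.card K →
      (∀ k ∈ K, x * k * x⁻¹ ∈ K) → ∀ k ∈ K, x * k = k * x := by
  intro m
  induction m using Nat.strong_induction_on with
  | _ m ih =>
  intro K hKm hK hn
  classical
  set C : Subgroup G := K ⊓ Subgroup.centralizer {x} with hC
  have hlt : ∀ L : Subgroup G, L ≤ K → L ≠ K → Nat.card L < m := fun L hL hne =>
    hKm ▸ lt_of_le_of_ne (Subgroup.card_le_of_le hL) (fun e => hne
      (Subgroup.eq_of_le_of_card_ge hL e.ge))
  have sub : ∀ L : Subgroup G, L ≤ K → L ≠ K → (∀ k ∈ L, x * k * x⁻¹ ∈ L) → L ≤ C := by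
    intro L hL hne hinv k hk
    refine Subgroup.mem_inf.2 ⟨hL hk, ?_⟩
    rw [Subgroup.mem_centralizer_singleton_iff]
    exact (ih _ (hlt L hL hne) L rfl (fun h => hK (h.trans (Subgroup.card_dvd_of_le hL))) hinv k hk).symm
  by_contra hcon
  have hCK : C ≠ K := fun e => hcon fun k hk => by
    rw [← e, Subgroup.mem_inf, Subgroup.mem_centralizer_singleton_iff] at hk
    exact hk.2.symm
  -- `K` is a `q`-group
  obtain ⟨q, hq, hqK⟩ : ∃ q, q.Prime ∧ IsPGroup q K := by
    by_contra hno
    push Not at hno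
    apply hCK
    refine Subgroup.eq_of_le_of_card_ge inf_le_left (Nat.le_of_dvd Nat.card_pos ?_)
    refine (Nat.factorization_le_iff_dvd Nat.card_pos.ne' Nat.card_pos.ne').1 fun q => ?_
    by_cases hq : q.Prime
    · haveI := Fact.mk hq
      obtain ⟨Q, hQK, hQq, hQc, hQx⟩ := exists_invariant_sylow (q := q) hK hx hn
      have hne : Q ≠ K := fun e => hno q hq (e ▸ hQq)
      have hd := Subgroup.card_dvd_of_le (sub Q hQK hne hQx)
      rw [hQc] at hd
      exact (hq.pow_dvd_iff_le_factorization Nat.card_pos.ne').1 hd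
    · rw [Nat.factorization_eq_zero_of_not_prime _ hq]; exact Nat.zero_le _
  haveI := Fact.mk hq
  haveI : Nontrivial K := by
    rw [Subgroup.nontrivial_iff_ne_bot]
    exact fun e => hCK (by rw [hC, e, bot_inf_eq])
  haveI := hqK.isNilpotent
  haveI : Group.IsSolvable K := inferInstance
  -- the derived subgroup
  let K' : Subgroup G := (commutator K).map K.subtype
  have hK'K : K' ≠ K := fun e => (Group.IsSolvable.commutator_lt_top_of_nontrivial K).ne
    (Subgroup.map_injective K.subtype_injective (e.trans (by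
      rw [← MonoidHom.range_eq_map, Subgroup.range_subtype])))
  let αK : K ≃* K :=
    { toFun := fun k => ⟨x * k * x⁻¹, hn k k.2⟩
      invFun := fun k => ⟨x ^ (p - 1) * k * (x ^ (p - 1))⁻¹, by
        generalize p - 1 = i
        induction i with
        | zero => simp [k.2]
        | succ i hi =>
          have := hn _ hi
          rwa [show x * (x ^ i * k * (x ^ i)⁻¹) * x⁻¹ = x ^ (i + 1) * k * (x ^ (i + 1))⁻¹ by
            rw [pow_succ']; group] at this⟩
      left_inv := fun k => Subtype.ext (by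
        show x ^ (p - 1) * (x * k * x⁻¹) * (x ^ (p - 1))⁻¹ = k
        rw [show x ^ (p - 1) * (x * k * x⁻¹) * (x ^ (p - 1))⁻¹ =
          (x ^ (p - 1) * x) * k * (x ^ (p - 1) * x)⁻¹ by group, ← pow_succ,
          Nat.sub_add_cancel hp.out.pos, hx]; group)
      right_inv := fun k => Subtype.ext (by
        show x * (x ^ (p - 1) * k * (x ^ (p - 1))⁻¹) * x⁻¹ = k
        rw [show x * (x ^ (p - 1) * k * (x ^ (p - 1))⁻¹) * x⁻¹ =
          (x * x ^ (p - 1)) * k * (x * x ^ (p - 1))⁻¹ by group, ← pow_succ',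
          Nat.sub_add_cancel hp.out.pos, hx]; group)
      map_mul' := fun a b => Subtype.ext (by simp [mul_assoc]) }
  have hK'x : ∀ k ∈ K', x * k * x⁻¹ ∈ K' := by
    rintro _ ⟨k, hk, rfl⟩
    have h1 : (commutator K).map αK.toMonoidHom = commutator K := by
      rw [commutator_def, Subgroup.map_commutator, Subgroup.map_top_of_surjective _ αK.surjective]
    exact ⟨αK k, h1 ▸ Subgroup.mem_map_of_mem _ hk, rfl⟩
  have hK'C := sub K' (Subgroup.map_subtype_le _) hK'K hK'x
  -- the generators of `[K, x]`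
  set S : Set G := {d | ∃ k ∈ K, d = k⁻¹ * (x * k * x⁻¹)} with hS
  have hSK : Subgroup.closure S = K := by
    by_contra hne
    have hle : Subgroup.closure S ≤ K := by
      rw [Subgroup.closure_le]
      rintro _ ⟨k, hk, rfl⟩
      exact K.mul_mem (K.inv_mem hk) (hn k hk)
    have hinv : ∀ d ∈ Subgroup.closure S, x * d * x⁻¹ ∈ Subgroup.closure S := by
      intro d hd
      have : (Subgroup.closure S).map (MulAut.conj x).toMonoidHom ≤ Subgroup.closure S := by
        rw [MonoidHom.map_closure, Subgroup.closure_le]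
        rintro _ ⟨_, ⟨k, hk, rfl⟩, rfl⟩
        refine Subgroup.subset_closure ⟨x * k * x⁻¹, hn k hk, ?_⟩
        simp only [MulEquiv.coe_toMonoidHom, MulAut.conj_apply]
        group
      exact this ⟨d, hd, rfl⟩
    apply hcon
    intro k hk
    have hd : k⁻¹ * (x * k * x⁻¹) ∈ C :=
      sub _ hle hne hinv (Subgroup.subset_closure ⟨k, hk, rfl⟩)
    rw [Subgroup.mem_inf, Subgroup.mem_centralizer_singleton_iff] at hd
    set d := k⁻¹ * (x * k * x⁻¹) with hd'
    have hiter : ∀ i : ℕ, x ^ i * k * (x ^ i)⁻¹ = k * d ^ i := by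
      intro i
      induction i with
      | zero => simp
      | succ i hi =>
        have hcm : x * d ^ i * x⁻¹ = d ^ i := by
          rw [((show Commute d x from hd.2).pow_left i).eq.symm, mul_inv_cancel_right]
        calc x ^ (i + 1) * k * (x ^ (i + 1))⁻¹ = x * (x ^ i * k * (x ^ i)⁻¹) * x⁻¹ := by
              rw [pow_succ']; group
          _ = (x * k * x⁻¹) * (x * d ^ i * x⁻¹) := by rw [hi]; group
          _ = k * d ^ (i + 1) := by
              rw [hcm, pow_succ', ← mul_assoc]; congr 1; rw [hd', mul_inv_cancel_left]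
    have hdp : d ^ p = 1 := by
      have := hiter p
      rwa [hx, one_mul, inv_one, mul_one, left_eq_mul] at this
    have hd1 : d = 1 := by
      rw [← orderOf_eq_one_iff]
      rcases (Nat.dvd_prime hp.out).1 (orderOf_dvd_of_pow_eq_one hdp) with h | h
      · exact h
      · exact absurd (h ▸ Subgroup.orderOf_dvd_natCard K hd.1) hK
    rw [hd', inv_mul_eq_one] at hd1
    conv_rhs => rw [hd1]
    group
  -- the fixed points are central
  have hcentral : ∀ c ∈ C, ∀ k ∈ K, c * k = k * c := by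
    intro c hc
    rw [Subgroup.mem_inf, Subgroup.mem_centralizer_singleton_iff] at hc
    suffices K ≤ Subgroup.centralizer {c} from fun k hk =>
      ((Subgroup.mem_centralizer_singleton_iff).1 (this hk)).symm
    rw [← hSK, Subgroup.closure_le]
    rintro _ ⟨k, hk, rfl⟩
    rw [SetLike.mem_coe, Subgroup.mem_centralizer_singleton_iff]
    have hu : c * k * c⁻¹ * k⁻¹ ∈ C := hK'C ⟨(⟨c, hc.1⟩ : K) * ⟨k, hk⟩ * (⟨c, hc.1⟩ : K)⁻¹ * (⟨k, hk⟩ : K)⁻¹,
      Subgroup.commutator_mem_commutator (Subgroup.mem_top _) (Subgroup.mem_top _), rfl⟩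
    rw [Subgroup.mem_inf, Subgroup.mem_centralizer_singleton_iff] at hu
    have hcx : x * c * x⁻¹ = c := by rw [← hc.2, mul_inv_cancel_right]
    set k' := x * k * x⁻¹ with hk'
    have e : c * k' * c⁻¹ * k'⁻¹ = c * k * c⁻¹ * k⁻¹ := by
      calc c * k' * c⁻¹ * k'⁻¹
          = (x * c * x⁻¹) * k' * (x * c * x⁻¹)⁻¹ * k'⁻¹ := by rw [hcx]
        _ = x * (c * k * c⁻¹ * k⁻¹) * x⁻¹ := by rw [hk']; group
        _ = _ := by rw [← hu.2, mul_inv_cancel_right]
    have h2 : Commute (k⁻¹ * k') c⁻¹ := by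
      calc k⁻¹ * k' * c⁻¹ = k⁻¹ * c⁻¹ * (c * k' * c⁻¹ * k'⁻¹) * k' := by group
        _ = c⁻¹ * (k⁻¹ * k') := by rw [e]; group
    exact Commute.inv_right_iff.1 h2
  -- characters
  haveI := Fintype.ofFinite K
  set χ : K → ℂ := fun k => R.character k with hχ
  have hχc : IsCharacter K χ := isCharacter_restrict (isCharacter_character R) K
  let α : IrrCharacter K → IrrCharacter K := fun θ =>
    ⟨fun k => (θ : K → ℂ) (αK k), isIrrCharacter_comp_surjective θ.2 αK.toMonoidHom αK.surjective⟩
  have hαχ : ∀ k, χ (αK k) = χ k := fun k => R.char_conj (k : G) x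
  choose nθ hnθ using fun θ : IrrCharacter K => classInner_char_nat hχc (isCharacter_of_irr θ.2)
  have hsum : ∀ k, χ k = ∑ θ : IrrCharacter K, (nθ θ : ℂ) * (θ : K → ℂ) k := fun k => by
    simpa [hnθ] using congrFun (eq_sum_irr (isClassFunction_char hχc)) k
  have hnα : ∀ θ, nθ (α θ) = nθ θ := by
    intro θ
    apply Nat.cast_injective (R := ℂ)
    rw [← hnθ, ← hnθ]
    unfold classInner
    congr 1
    refine Fintype.sum_equiv αK.toEquiv _ _ fun k => ?_
    show χ k * conj ((θ : K → ℂ) (αK k)) = χ (αK k) * _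
    rw [hαχ]; rfl
  choose e he1 he2 using fun θ : IrrCharacter K => irr_degree_pos θ.2
  have hdeg : ∑ θ, nθ θ * e θ = f := by
    have h1 := hsum 1
    rw [show χ 1 = (f : ℂ) from R.char_one.trans (by rw [Module.finrank_fin_fun]),
      Finset.sum_congr rfl fun θ _ => by rw [he2 θ]] at h1
    exact_mod_cast h1.symm
  have hitα : ∀ (θ : IrrCharacter K) (i : ℕ) (k : K),
      ((α^[i] θ : IrrCharacter K) : K → ℂ) k = (θ : K → ℂ) ((αK : K → K)^[i] k) := by
    intro θ i
    induction i with
    | zero => intro k; rfl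
    | succ i hi =>
      intro k
      rw [Function.iterate_succ_apply', Function.iterate_succ_apply]
      exact hi (αK k)
  have hitK : ∀ i k, (((αK : K → K)^[i] k : K) : G) = x ^ i * k * (x ^ i)⁻¹ := by
    intro i k
    induction i with
    | zero => simp
    | succ i hi =>
      rw [Function.iterate_succ_apply']
      show x * _ * x⁻¹ = _
      rw [hi, pow_succ']; group
  have hαp : ∀ θ, α^[p] θ = θ := fun θ => Subtype.ext (funext fun k => by
    rw [hitα]; exact congrArg (θ : K → ℂ) (Subtype.ext ((hitK p k).trans (by rw [hx, one_mul, inv_one, mul_one]))))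
  have hinv : ∀ θ, nθ θ ≠ 0 → α θ = θ := by
    intro θ hθ
    by_contra hne
    have hper : Function.minimalPeriod α θ = p :=
      Function.minimalPeriod_eq_prime_iff.2 ⟨hαp θ, hne⟩
    have hinj : Set.InjOn (fun i => α^[i] θ) (Set.Iio p) := by
      rw [← hper]; exact Function.iterate_injOn_Iio_minimalPeriod
    have hni : ∀ i, nθ (α^[i] θ) = nθ θ := fun i => by
      induction i with
      | zero => rfl
      | succ i hi => rw [Function.iterate_succ_apply', hnα, hi]
    have h1 : ∑ ψ ∈ (Finset.range p).image (fun i => α^[i] θ), nθ ψ * e ψ ≤ f := by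
      rw [← hdeg]
      exact Finset.sum_le_sum_of_subset (Finset.subset_univ _)
    have h2 : ∑ ψ ∈ (Finset.range p).image (fun i => α^[i] θ), 1 ≤
        ∑ ψ ∈ (Finset.range p).image (fun i => α^[i] θ), nθ ψ * e ψ := by
      refine Finset.sum_le_sum fun ψ hψ => ?_
      obtain ⟨i, -, rfl⟩ := Finset.mem_image.1 hψ
      rw [hni]
      exact Nat.one_le_iff_ne_zero.2 (Nat.mul_ne_zero hθ (Nat.ne_of_gt (he1 _)))
    rw [Finset.sum_const, smul_eq_mul, mul_one,
      Finset.card_image_of_injOn (by simpa using hinj), Finset.card_range] at h2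
    omega
  have hlin : ∀ θ, nθ θ ≠ 0 → e θ = 1 := by
    intro θ hθ
    have hF : ∀ k, (θ : K → ℂ) (αK k) = (θ : K → ℂ) k := fun k =>
      congrFun (congrArg Subtype.val (hinv θ hθ)) k
    have hsq : αK.toEquiv ^ p = 1 := Equiv.ext fun k => Subtype.ext (by
      rw [← Equiv.Perm.iterate_eq_pow]
      show (((αK : K → K)^[p] k : K) : G) = k
      rw [hitK, hx]; simp)
    obtain ⟨n, ρ, hρ, hρc⟩ := θ.2
    haveI := hρ
    have hdn : (n : ℂ) = (e θ : ℂ) := by
      rw [← he2, ← hρc, ρ.char_one, Module.finrank_fin_fun]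
    have hnorm : ∀ k : K, αK k = k → (θ : K → ℂ) k * conj ((θ : K → ℂ) k) =
        (e θ : ℂ) * (e θ : ℂ) := by
      intro k hk
      have hkC : (k : G) ∈ C := Subgroup.mem_inf.2 ⟨k.2, by
        rw [Subgroup.mem_centralizer_singleton_iff]
        have : x * (k : G) * x⁻¹ = k := congrArg Subtype.val hk
        rw [mul_inv_eq_iff_eq_mul] at this
        exact this.symm⟩
      have hz : k ∈ Subgroup.center K := Subgroup.mem_center_iff.2 fun g =>
        Subtype.ext (hcentral _ hkC g g.2).symm
      obtain ⟨ω, hω⟩ := exists_scalar_of_mem_center ρ hz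
      have hval : (θ : K → ℂ) k = ω * (n : ℂ) := by
        rw [← hρc]
        show LinearMap.trace ℂ _ (ρ k) = _
        rw [hω, map_smul, ← Module.End.one_eq_id, LinearMap.trace_one, Module.finrank_fin_fun,
          smul_eq_mul]
      have hω1 : ω * conj ω = 1 := by
        have hn0 : n ≠ 0 := fun h => (Nat.ne_of_gt (he1 θ)) (by
          have := hdn; rw [h] at this; exact_mod_cast this.symm)
        have hp1 : ω ^ orderOf k = 1 := by
          have h1 : ρ (k ^ orderOf k) = 1 := by rw [pow_orderOf_eq_one, map_one]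
          rw [map_pow, hω, ← Module.End.one_eq_id, smul_pow, one_pow] at h1
          have h2 := congrFun (LinearMap.congr_fun h1 (fun _ => (1 : ℂ)))
            ⟨0, Nat.pos_of_ne_zero hn0⟩
          simpa using h2
        have := Complex.norm_eq_one_of_pow_eq_one hp1 (orderOf_pos k).ne'
        rw [Complex.mul_conj', this]; simp
      rw [hval, map_mul, Complex.conj_natCast, hdn, mul_mul_mul_comm, hω1, one_mul]
    obtain ⟨z, hz, hzeq⟩ := dvd_sum_sub αK.toEquiv hsq
      (fun k => (θ : K → ℂ) k * conj ((θ : K → ℂ) k)) (fun k => by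
        show _ * _ = _
        rw [show αK.toEquiv k = αK k from rfl, hF]) fun k => by
        rw [← char_apply_inv (isCharacter_of_irr θ.2)]
        exact (isIntegral_of_char (isCharacter_of_irr θ.2) k).mul
          (isIntegral_of_char (isCharacter_of_irr θ.2) k⁻¹)
    set Fx := Finset.univ.filter (fun k : K => αK.toEquiv k = k) with hFx
    have hFs : ∑ k ∈ Fx, (θ : K → ℂ) k * conj ((θ : K → ℂ) k) =
        (Fx.card : ℂ) * ((e θ : ℂ) * (e θ : ℂ)) := by
      refine (Finset.sum_congr rfl fun k hk => hnorm k (Finset.mem_filter.1 hk).2).trans ?_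
      rw [Finset.sum_const, nsmul_eq_mul]
      rfl
    rw [sum_mul_conj_irr θ.2, hFs] at hzeq
    obtain ⟨w, hw, hweq⟩ := dvd_sum_sub αK.toEquiv hsq (fun _ : K => (1 : ℂ)) (fun _ => rfl)
      (fun _ => isIntegral_one)
    rw [Finset.sum_const, Finset.sum_const, ← hFx, Finset.card_univ, nsmul_eq_mul, nsmul_eq_mul,
      mul_one, mul_one, ← Nat.card_eq_fintype_card] at hweq
    have hz' : ((Fx.card * (e θ * e θ) : ℕ) : ℂ) - (Fx.card : ℂ) = (p : ℂ) * (w - z) := by
      push_cast; linear_combination hweq - hzeq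
    have hdvd : (p : ℤ) ∣ (Fx.card : ℤ) * ((e θ : ℤ) * e θ - 1) := by
      have hq' : ((((Fx.card : ℤ) * ((e θ : ℤ) * e θ - 1) : ℤ) : ℚ) / p : ℂ) = w - z := by
        rw [div_eq_iff (Nat.cast_ne_zero.2 hp.out.ne_zero), mul_comm (w - z), ← hz']
        push_cast; ring
      obtain ⟨l, hl⟩ := exists_int_of_isIntegral_ratCast
        (q := (((Fx.card : ℤ) * ((e θ : ℤ) * e θ - 1) : ℤ) : ℚ) / p) (by
          push_cast at hq' ⊢; rw [hq']; exact hw.sub hz)
      refine ⟨l, ?_⟩
      rw [div_eq_iff (Nat.cast_ne_zero.2 hp.out.ne_zero)] at hl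
      have : (((Fx.card : ℤ) * ((e θ : ℤ) * e θ - 1) : ℤ) : ℚ) = (((p : ℤ) * l : ℤ) : ℚ) := by
        rw [hl]; push_cast; ring
      exact_mod_cast this
    have hFxp : ¬ (p : ℤ) ∣ (Fx.card : ℤ) := by
      rw [Int.natCast_dvd_natCast]
      intro h
      apply hK
      obtain ⟨l, hl⟩ := exists_int_of_isIntegral_ratCast
        (q := ((Nat.card K : ℚ) - Fx.card) / p) (by
          push_cast
          rw [hweq, mul_div_cancel_left₀ _ (Nat.cast_ne_zero.2 hp.out.ne_zero)]
          exact hw)
      rw [div_eq_iff (Nat.cast_ne_zero.2 hp.out.ne_zero)] at hl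
      have h2 : (Nat.card K : ℤ) = (Fx.card : ℤ) + (p : ℤ) * l := by
        have : ((Nat.card K : ℤ) : ℚ) = (((Fx.card : ℤ) + (p : ℤ) * l : ℤ) : ℚ) := by
          push_cast; linear_combination hl
        exact_mod_cast this
      exact Int.natCast_dvd_natCast.1
        (h2 ▸ dvd_add (Int.natCast_dvd_natCast.2 h) (dvd_mul_right _ _))
    have hp' : Prime (p : ℤ) := Nat.prime_iff_prime_int.1 hp.out
    have h3 := (hp'.dvd_or_dvd hdvd).resolve_left hFxp
    rw [show (e θ : ℤ) * e θ - 1 = ((e θ : ℤ) - 1) * ((e θ : ℤ) + 1) by ring] at h3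
    have hle : e θ ≤ f := hdeg ▸ le_trans (Nat.le_mul_of_pos_left _ (Nat.pos_of_ne_zero hθ))
      (Finset.single_le_sum (fun ψ _ => Nat.zero_le (nθ ψ * e ψ)) (Finset.mem_univ θ))
    have := he1 θ
    rcases hp'.dvd_or_dvd h3 with h4 | h4
    · by_contra hne
      have := Int.le_of_dvd (by omega) h4
      omega
    · have := Int.le_of_dvd (by omega) h4
      omega
  apply hcon
  intro k hk
  set d : K := (⟨k, hk⟩ : K)⁻¹ * αK ⟨k, hk⟩ with hd
  have hd1 : R (d : G) = 1 := by
    refine rep_apply_eq_one_of_char_eq R ?_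
    show χ d = χ 1
    rw [hsum, hsum]
    refine Finset.sum_congr rfl fun θ _ => ?_
    rcases eq_or_ne (nθ θ) 0 with h0 | h0
    · simp [h0]
    congr 1
    obtain ⟨φ, hφ⟩ := exists_hom_of_degree_one (isCharacter_of_irr θ.2)
      (by rw [he2, hlin θ h0, Nat.cast_one])
    have hF := congrFun (congrArg Subtype.val (hinv θ h0)) ⟨k, hk⟩
    change (θ : K → ℂ) (αK ⟨k, hk⟩) = _ at hF
    rw [hd, hφ] at *
    simp only at hF ⊢
    rw [map_mul, map_inv, map_one, Units.val_mul, hF, ← Units.val_mul, inv_mul_cancel,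
      Units.val_one]
  have hd2 : (d : G) = 1 := hR (hd1.trans (map_one R).symm)
  rw [hd, Subgroup.coe_mul, Subgroup.coe_inv, inv_mul_eq_one] at hd2
  conv_rhs => rw [show k = x * k * x⁻¹ from hd2]
  group

end CfsgLib.SmallRep
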