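import Cfsg.Agent.Lib.Dickson.Main

/-!
# Three-dimensional orthogonal representations with a regular unipotent element

If an element of order `p` acts as a regular unipotent in a three-dimensional orthogonal
representation and does not commute with all its conjugates, Dickson's theorem shows that the
normalizer of the Sylow subgroup induces all squares.
-/

namespace CfsgLib.SmallRep

open Matrix CfsgLib.Dickson

set_option linter.unusedSectionVars false
set_option linter.style.haveILetI false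

variable {k : Type*} [Field k]

local notation "SL" => Matrix.SpecialLinearGroup (Fin 2) k

/-- The form preserved by the symmetric square. -/
def formJ : Matrix (Fin 3) (Fin 3) k := !![0, 0, 2; 0, -1, 0; 2, 0, 0]

/-- The symmetric square. -/
def symSqMat (g : SL) : Matrix (Fin 3) (Fin 3) k :=
  !![g.1 0 0 * g.1 0 0, g.1 0 0 * g.1 0 1, g.1 0 1 * g.1 0 1;
     2 * g.1 0 0 * g.1 1 0, g.1 0 0 * g.1 1 1 + g.1 0 1 * g.1 1 0, 2 * g.1 0 1 * g.1 1 1;
     g.1 1 0 * g.1 1 0, g.1 1 0 * g.1 1 1, g.1 1 1 * g.1 1 1]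

/-- The symmetric square as a homomorphism. -/
def symSq : SL →* Matrix (Fin 3) (Fin 3) k where
  toFun := symSqMat
  map_one' := by
    ext i j
    fin_cases i <;> fin_cases j <;> simp [symSqMat]
  map_mul' g h := by
    ext i j
    fin_cases i <;> fin_cases j <;>
      simp [symSqMat, Matrix.mul_apply, Fin.sum_univ_three, mul_entry] <;> ring

theorem symSq_up (t : k) : symSq (up t) = !![1, t, t * t; 0, 1, 2 * t; 0, 0, 1] := by
  ext i j
  fin_cases i <;> fin_cases j <;> simp [symSq, symSqMat, up]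

theorem symSq_lo (t : k) : symSq (lo t) = !![1, 0, 0; 2 * t, 1, 0; t * t, t, 1] := by
  ext i j
  fin_cases i <;> fin_cases j <;> simp [symSq, symSqMat, lo]

theorem symSq_form (g : SL) : (symSq g)ᵀ * formJ * symSq g = formJ := by
  have h := det_eq g
  have key : (symSq g)ᵀ * formJ * symSq g =
      ((g.1 0 0 * g.1 1 1 - g.1 0 1 * g.1 1 0) ^ 2) • formJ := by
    ext i j
    fin_cases i <;> fin_cases j <;>
      simp [symSq, symSqMat, formJ, Matrix.mul_apply, Fin.sum_univ_three] <;> ring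
  rw [key, h, one_pow, one_smul]

theorem symSq_eq_one {g : SL} (h : symSq g = 1) : g = 1 ∨ g = -1 := by
  have h00 := congrFun (congrFun h 0) 0
  have h02 := congrFun (congrFun h 0) 2
  have h20 := congrFun (congrFun h 2) 0
  have hd := det_eq g
  simp [symSq, symSqMat] at h00 h02 h20
  have h01 : g.1 0 1 = 0 := h02
  have h10 : g.1 1 0 = 0 := h20
  rw [h01, zero_mul, sub_zero] at hd
  rcases mul_self_eq_one_iff.1 h00 with e | e
  · rw [e, one_mul] at hd
    exact Or.inl (ext_entries (by simp [e]) (by simp [h01]) (by simp [h10]) (by simp [hd]))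
  · rw [e, neg_one_mul, neg_eq_iff_eq_neg] at hd
    exact Or.inr (ext_entries (by simp [e]) (by simp [h01]) (by simp [h10]) (by simp [hd]))

section shapes

variable {M : Matrix (Fin 3) (Fin 3) k} (h2 : (2 : k) ≠ 0) (hM : Mᵀ * formJ * M = formJ)
  (hdet : M.det = 1)

include h2 hM hdet

theorem eq_symSq_up (h0 : M 0 0 = 1) (h1 : M 1 0 = 0) (h20 : M 2 0 = 0) :
    M = symSq (up (M 0 1)) := by
  have e01 := congrFun (congrFun hM 0) 1
  have e02 := congrFun (congrFun hM 0) 2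
  have e12 := congrFun (congrFun hM 1) 2
  have e22 := congrFun (congrFun hM 2) 2
  simp [formJ, Matrix.mul_apply, Fin.sum_univ_three, h0, h1, h20] at e01 e02 e12 e22
  have m21 : M 2 1 = 0 := by simpa [h2] using e01
  have m22 : M 2 2 = 1 := mul_left_cancel₀ h2 (by rw [mul_one]; exact e02)
  have m11 : M 1 1 = 1 := by
    rw [Matrix.det_fin_three, h0, h1, h20, m21, m22] at hdet
    linear_combination hdet
  rw [m21, m11, m22] at e12
  have m12 : M 1 2 = 2 * M 0 1 := by linear_combination -e12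
  rw [m12, m22] at e22
  have m02 : M 0 2 = M 0 1 * M 0 1 :=
    mul_left_cancel₀ (mul_ne_zero h2 h2) (by linear_combination e22)
  rw [symSq_up]
  ext i j
  fin_cases i <;> fin_cases j <;> simp [h0, h1, h20, m21, m22, m11, m12, m02]

theorem eq_symSq_lo (h02 : M 0 2 = 0) (h12 : M 1 2 = 0) (h22 : M 2 2 = 1) :
    M = symSq (lo (M 2 1)) := by
  have e21 := congrFun (congrFun hM 2) 1
  have e20 := congrFun (congrFun hM 2) 0
  have e10 := congrFun (congrFun hM 1) 0
  have e00 := congrFun (congrFun hM 0) 0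
  simp [formJ, Matrix.mul_apply, Fin.sum_univ_three, h02, h12, h22] at e21 e20 e10 e00
  have m01 : M 0 1 = 0 := by simpa [h2] using e21
  have m00 : M 0 0 = 1 := mul_left_cancel₀ h2 (by rw [mul_one]; exact e20)
  have m11 : M 1 1 = 1 := by
    rw [Matrix.det_fin_three, h02, h12, h22, m01, m00] at hdet
    linear_combination hdet
  rw [m01, m11, m00] at e10
  have m10 : M 1 0 = 2 * M 2 1 := by linear_combination -e10
  rw [m10, m00] at e00
  have m20 : M 2 0 = M 2 1 * M 2 1 :=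
    mul_left_cancel₀ (mul_ne_zero h2 h2) (by linear_combination e00)
  rw [symSq_lo]
  ext i j
  fin_cases i <;> fin_cases j <;> simp [h02, h12, h22, m01, m00, m11, m10, m20]

end shapes

variable {p : ℕ} [hp : Fact p.Prime] [CharP k p] {G : Type*} [Group G] [Finite G] {x : G}

theorem exists_fixed_chain {S : Matrix (Fin 3) (Fin 3) k} (h2 : (S - 1) ^ 2 ≠ 0)
    (h3 : (S - 1) ^ 3 = 0) :
    ∃ z : Fin 3 → k, (S - 1) *ᵥ ((S - 1) *ᵥ z) ≠ 0 ∧
      (S - 1) *ᵥ ((S - 1) *ᵥ ((S - 1) *ᵥ z)) = 0 := by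
  obtain ⟨z, hz⟩ : ∃ z, ((S - 1) ^ 2) *ᵥ z ≠ 0 := by
    by_contra h
    push Not at h
    exact h2 (Matrix.ext_iff_mulVec.2 fun v => by rw [h v, Matrix.zero_mulVec])
  refine ⟨z, by rwa [Matrix.mulVec_mulVec, ← sq], ?_⟩
  rw [Matrix.mulVec_mulVec, Matrix.mulVec_mulVec, ← sq, ← pow_succ, h3, Matrix.zero_mulVec]

/-- A homomorphism preserving a form, after normalising the determinant. -/
theorem exists_special (hp2 : p ≠ 2) (σ : G →* Matrix (Fin 3) (Fin 3) k)
    (J : Matrix (Fin 3) (Fin 3) k) (hJ : J.det ≠ 0) (hσ : ∀ g, (σ g)ᵀ * J * σ g = J)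
    (hx : x ^ p = 1) :
    ∃ τ : G →* Matrix (Fin 3) (Fin 3) k, (∀ g, (τ g)ᵀ * J * τ g = J ∧ (τ g).det = 1) ∧
      (∀ g h, σ g * σ h ≠ σ h * σ g → τ g * τ h ≠ τ h * τ g) ∧
      ∀ g, τ (g * x * g⁻¹) = σ (g * x * g⁻¹) := by
  have hd : ∀ g, (σ g).det * (σ g).det = 1 := fun g => by
    have h := congrArg Matrix.det (hσ g)
    rw [Matrix.det_mul, Matrix.det_mul, Matrix.det_transpose] at h
    exact mul_right_cancel₀ hJ (by rw [one_mul]; linear_combination h)
  let τ : G →* Matrix (Fin 3) (Fin 3) k :=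
    { toFun := fun g => (σ g).det • σ g
      map_one' := by simp
      map_mul' := fun g h => by
        rw [map_mul, Matrix.det_mul, smul_mul_assoc, mul_smul_comm, smul_smul] }
  have hτ : ∀ g, τ g = (σ g).det • σ g := fun _ => rfl
  refine ⟨τ, fun g => ⟨?_, ?_⟩, fun g h hne e => hne ?_, fun g => ?_⟩
  · rw [hτ, Matrix.transpose_smul, smul_mul_assoc, smul_mul_assoc, mul_smul_comm, smul_smul, hd,
      one_smul, hσ]
  · rw [hτ, Matrix.det_smul, Fintype.card_fin]
    linear_combination ((σ g).det * (σ g).det + 1) * hd g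
  · rw [hτ, hτ, smul_mul_assoc, mul_smul_comm, smul_smul, smul_mul_assoc, mul_smul_comm, smul_smul,
      mul_comm (σ h).det] at e
    have h0 : (σ g).det * (σ h).det ≠ 0 := fun h0 => one_ne_zero (α := k) (by
      linear_combination -(hd g) - ((σ g).det * (σ g).det) * hd h +
        ((σ g).det * (σ h).det) * h0)
    exact smul_right_injective _ h0 e
  · rw [hτ]
    obtain ⟨m, hm⟩ := hp.out.odd_of_ne_two hp2
    set d := (σ (g * x * g⁻¹)).det with hdd
    have h1 : d ^ p = 1 := by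
      rw [hdd, ← Matrix.det_pow, ← map_pow, conj_pow, hx, mul_one, mul_inv_cancel, map_one,
        Matrix.det_one]
    rw [hm, pow_succ, pow_mul, sq, hd, one_pow, one_mul] at h1
    rw [h1, one_smul]

/-- Normal form for two regular unipotents. -/
theorem exists_pair_form (h2k : (2 : k) ≠ 0) {J : Matrix (Fin 3) (Fin 3) k} (hJs : Jᵀ = J)
    (hJ : J.det ≠ 0) {S R : Matrix (Fin 3) (Fin 3) k} (hS : Sᵀ * J * S = J) (hR : Rᵀ * J * R = J)
    (hSd : S.det = 1) (hRd : R.det = 1)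
    (hS2 : (S - 1) ^ 2 ≠ 0) (hS3 : (S - 1) ^ 3 = 0) (hR2 : (R - 1) ^ 2 ≠ 0) (hR3 : (R - 1) ^ 3 = 0)
    (hne : S * R ≠ R * S) :
    ∃ (U : (Matrix (Fin 3) (Fin 3) k)ˣ) (a b : k), a ≠ 0 ∧ b ≠ 0 ∧
      (U⁻¹).val * S * U.val = symSq (up a) ∧ (U⁻¹).val * R * U.val = symSq (lo b) ∧
      ∀ T : Matrix (Fin 3) (Fin 3) k, Tᵀ * J * T = J →
        ((U⁻¹).val * T * U.val)ᵀ * formJ * ((U⁻¹).val * T * U.val) = formJ := by
  let q : (Fin 3 → k) → (Fin 3 → k) → k := fun u w => u ⬝ᵥ (J *ᵥ w)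
  have hqc : ∀ u w, q u w = q w u := fun u w => by
    show u ⬝ᵥ (J *ᵥ w) = w ⬝ᵥ (J *ᵥ u)
    rw [Matrix.dotProduct_mulVec, ← Matrix.mulVec_transpose, hJs, dotProduct_comm]
  have hqa : ∀ u v w, q u (v + w) = q u v + q u w := fun u v w => by
    simp [q, Matrix.mulVec_add, dotProduct_add]
  have hqs : ∀ (c : k) u w, q u (c • w) = c * q u w := fun c u w => by
    simp [q, Matrix.mulVec_smul]
  have hqa' : ∀ u v w, q (v + w) u = q v u + q w u := fun u v w => by
    rw [hqc, hqa, hqc u, hqc u]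
  have hqs' : ∀ (c : k) u w, q (c • w) u = c * q w u := fun c u w => by rw [hqc, hqs, hqc u]
  have hqn : ∀ u w, q u (-w) = -q u w := fun u w => by simp [q, Matrix.mulVec_neg]
  have hqn' : ∀ u w, q (-w) u = -q w u := fun u w => by rw [hqc, hqn, hqc u]
  have hq0 : ∀ u, q u 0 = 0 := fun u => by simp [q]
  have hq0' : ∀ u, q 0 u = 0 := fun u => by simp [q]
  have inv : ∀ {T : Matrix (Fin 3) (Fin 3) k}, Tᵀ * J * T = J → ∀ u w,
      q ((T - 1) *ᵥ u) w + q u ((T - 1) *ᵥ w) + q ((T - 1) *ᵥ u) ((T - 1) *ᵥ w) = 0 := by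
    intro T hT u w
    have h : q (T *ᵥ u) (T *ᵥ w) = q u w := by
      show (T *ᵥ u) ⬝ᵥ (J *ᵥ (T *ᵥ w)) = u ⬝ᵥ (J *ᵥ w)
      rw [Matrix.mulVec_mulVec, dotProduct_comm, Matrix.dotProduct_mulVec,
        ← Matrix.mulVec_transpose, dotProduct_comm, Matrix.mulVec_mulVec, ← mul_assoc, hT]
    have e : ∀ v, T *ᵥ v = v + (T - 1) *ᵥ v := fun v => by
      rw [Matrix.sub_mulVec, Matrix.one_mulVec]; abel
    rw [e, e, hqa, hqa', hqa'] at h
    linear_combination h
  obtain ⟨z, hv0, hv1⟩ := exists_fixed_chain hS2 hS3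
  obtain ⟨z', hw0, hw1⟩ := exists_fixed_chain hR2 hR3
  set u₀ := (S - 1) *ᵥ z with hu₀
  set v := (S - 1) *ᵥ u₀ with hv
  set w := (R - 1) *ᵥ ((R - 1) *ᵥ z') with hw
  have qvX : ∀ r, q v ((S - 1) *ᵥ r) = 0 := fun r => by
    have := inv hS v r
    rwa [hv1, hq0', hq0', zero_add, add_zero] at this
  have qvu : q v u₀ = 0 := qvX z
  have qvv : q v v = 0 := qvX u₀
  have qww : q w w = 0 := by
    have := inv hR w ((R - 1) *ᵥ z')
    rwa [hw1, hq0', hq0', zero_add, add_zero] at this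
  have κe : q u₀ u₀ = -q z v := by
    have := inv hS z u₀
    rw [← hu₀, ← hv, hqc u₀ v, qvu, add_zero] at this
    linear_combination this
  -- a basis
  have hB : LinearIndependent k ![v, u₀, z] := by
    rw [Fintype.linearIndependent_iff]
    intro g hg
    simp only [Fin.sum_univ_three, Matrix.cons_val] at hg
    have e1 := congrArg (fun r => (S - 1) *ᵥ r) hg
    simp only [Matrix.mulVec_add, Matrix.mulVec_smul, Matrix.mulVec_zero, hv1, ← hv, ← hu₀,
      smul_zero, zero_add] at e1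
    have e2 := congrArg (fun r => (S - 1) *ᵥ r) e1
    simp only [Matrix.mulVec_add, Matrix.mulVec_smul, Matrix.mulVec_zero, hv1, ← hv,
      smul_zero, zero_add] at e2
    have g2 : g 2 = 0 := (smul_eq_zero.1 e2).resolve_right hv0
    rw [g2, zero_smul, add_zero] at e1
    have g1 : g 1 = 0 := (smul_eq_zero.1 e1).resolve_right hv0
    rw [g1, g2, zero_smul, zero_smul, add_zero, add_zero] at hg
    have g0 : g 0 = 0 := (smul_eq_zero.1 hg).resolve_right hv0
    intro i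
    fin_cases i <;> assumption
  have qzv : q z v ≠ 0 := fun h0 => by
    have hsp := hB.span_eq_top_of_card_eq_finrank (by simp)
    have hall : ∀ r, q v r = 0 := fun r => by
      have hr : r ∈ Submodule.span k (Set.range ![v, u₀, z]) := hsp ▸ Submodule.mem_top
      obtain ⟨c, rfl⟩ := (Submodule.mem_span_range_iff_exists_fun k).1 hr
      simp only [Fin.sum_univ_three, Matrix.cons_val, hqa, hqs, qvu, qvv, hqc v z, h0, mul_zero,
        add_zero]
    have : Jᵀ *ᵥ v = 0 := by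
      refine funext fun i => ?_
      have h' := hall (Pi.single i 1)
      simp only [q, Matrix.dotProduct_mulVec, dotProduct_single, mul_one,
        ← Matrix.mulVec_transpose] at h'
      exact h'
    rw [hJs] at this
    exact hv0 (Matrix.eq_zero_of_mulVec_eq_zero hJ this)
  set d := q z v with hd
  set κ : k := -d with hκ
  have hκ0 : κ ≠ 0 := neg_ne_zero.2 qzv
  set w' := d⁻¹ • (z + (-(q z z / (2 * d))) • v) with hw'
  have qvw' : q v w' = 1 := by
    rw [hw', hqs, hqa, hqs, qvv, mul_zero, add_zero, hqc v z, ← hd, inv_mul_cancel₀ qzv]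
  have qw'w' : q w' w' = 0 := by
    rw [hw', hqs, hqs', hqa, hqa', hqa', hqs, hqs', hqs', hqs, qvv, hqc v z, ← hd]
    field_simp
    ring
  set u := u₀ + (-(q u₀ w')) • v with hu
  have quv : q v u = 0 := by rw [hu, hqa, hqs, qvu, qvv, mul_zero, add_zero]
  have quw' : q u w' = 0 := by rw [hu, hqa', hqs', qvw', mul_one, add_neg_cancel]
  have quu : q u u = κ := by
    nth_rewrite 2 [hu]
    rw [hqa, hqs, hqc u v, quv, mul_zero, add_zero, hu, hqa', hqs', qvu, mul_zero, add_zero, κe]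
  set w'' := (-(2 * κ)) • w' with hw''
  let P : Matrix (Fin 3) (Fin 3) k := (Matrix.of ![v, u, w''])ᵀ
  have hP : Pᵀ * J * P = (-κ) • formJ := by
    ext i j
    have e : (Pᵀ * J * P) i j = q (![v, u, w''] i) (![v, u, w''] j) := by
      rw [mul_assoc]
      rfl
    rw [e]
    fin_cases i <;> fin_cases j <;>
      simp [formJ, hw'', hqs, hqs', hqn, hqn', qvv, qvw', qw'w', quu, quv, quw', hqc u v, hqc w' v, hqc w' u,
        mul_comm]
  have hJ1 : (formJ : Matrix (Fin 3) (Fin 3) k).det ≠ 0 := by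
    simp [formJ, Matrix.det_fin_three, h2k]
  have hPd : IsUnit P := by
    rw [Matrix.isUnit_iff_isUnit_det, isUnit_iff_ne_zero]
    intro h0
    have := congrArg Matrix.det hP
    rw [Matrix.det_mul, h0, mul_zero, Matrix.det_smul] at this
    exact mul_ne_zero (pow_ne_zero _ (neg_ne_zero.2 hκ0)) hJ1 this.symm
  obtain ⟨U₀, hU₀⟩ := hPd
  have hform : ∀ T : Matrix (Fin 3) (Fin 3) k, Tᵀ * J * T = J →
      ((U₀⁻¹).val * T * U₀.val)ᵀ * formJ * ((U₀⁻¹).val * T * U₀.val) = formJ := by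
    intro T hT
    have hJ' : (formJ : Matrix (Fin 3) (Fin 3) k) = (-κ)⁻¹ • (U₀.valᵀ * J * U₀.val) := by
      rw [hU₀, hP, smul_smul, inv_mul_cancel₀ (neg_ne_zero.2 hκ0), one_smul]
    rw [hJ', mul_smul_comm, smul_mul_assoc]
    congr 1
    have hVt : (U₀⁻¹).valᵀ * U₀.valᵀ = 1 := by
      rw [← Matrix.transpose_mul, Units.mul_inv, Matrix.transpose_one]
    rw [Matrix.transpose_mul, Matrix.transpose_mul]
    have e : ∀ A : Matrix (Fin 3) (Fin 3) k,
        U₀.valᵀ * (Tᵀ * (U₀⁻¹).valᵀ) * (U₀.valᵀ * J * U₀.val) * ((U₀⁻¹).val * T * A) =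
          U₀.valᵀ * (Tᵀ * J * T) * A := fun A => by
      simp only [mul_assoc]
      rw [← mul_assoc (U₀⁻¹).valᵀ U₀.valᵀ, hVt, one_mul, Units.mul_inv_cancel_left]
    rw [e, hT]
  have hdetc : ∀ T : Matrix (Fin 3) (Fin 3) k, ((U₀⁻¹).val * T * U₀.val).det = T.det := fun T => by
    rw [Matrix.det_units_conj']
  have hcol : ∀ (A : Matrix (Fin 3) (Fin 3) k) (i j : Fin 3),
      A i j = (A *ᵥ Pi.single j 1) i := fun A i j => by rw [Matrix.mulVec_single_one]; rfl
  have hcol' : ∀ (A : Matrix (Fin 3) (Fin 3) k) (j j' : Fin 3),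
      A *ᵥ Pi.single j 1 = Pi.single j' 1 → ∀ i, A i j = (Pi.single j' 1 : Fin 3 → k) i :=
    fun A j j' h i => (hcol A i j).trans (congrFun h i)
  have hPcol : U₀.val *ᵥ Pi.single 0 1 = v := by
    rw [hU₀, Matrix.mulVec_single_one]; rfl
  have hSe : ((U₀⁻¹).val * S * U₀.val) *ᵥ Pi.single 0 1 = Pi.single 0 1 := by
    have hSv : S *ᵥ v = v := by
      rw [← sub_eq_zero, ← hv1, Matrix.sub_mulVec, Matrix.one_mulVec]
    rw [← Matrix.mulVec_mulVec, ← Matrix.mulVec_mulVec, hPcol, hSv, ← hPcol,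
      Matrix.mulVec_mulVec, Units.inv_mul, Matrix.one_mulVec]
  set S' := (U₀⁻¹).val * S * U₀.val with hS'
  set R' := (U₀⁻¹).val * R * U₀.val with hR'
  have hne' : S' * R' ≠ R' * S' := fun e => hne (by
    have e' := congrArg (fun A => U₀.val * A * (U₀⁻¹).val) e
    simp only [hS', hR', mul_assoc, Units.mul_inv_cancel_left, Units.mul_inv, mul_one] at e'
    exact e')
  have hS'up : S' = symSq (up (S' 0 1)) :=
    eq_symSq_up h2k (hform S hS) ((hdetc S).trans hSd)
      (by simpa using hcol' _ 0 0 hSe 0) (by simpa using hcol' _ 0 0 hSe 1) (by simpa using hcol' _ 0 0 hSe 2)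
  have ha : S' 0 1 ≠ 0 := fun h0 => hne' (by rw [hS'up, h0, up_zero, map_one, one_mul, mul_one])
  set a := S' 0 1 with ha'
  -- the fixed vector of the second element
  set c := (U₀⁻¹).val *ᵥ w with hc
  have hc0 : c ≠ 0 := fun h => hw0 (by
    rw [← Matrix.one_mulVec w, ← Units.mul_inv U₀,
      ← Matrix.mulVec_mulVec, ← hc, h, Matrix.mulVec_zero])
  have hRc : R' *ᵥ c = c := by
    have hRw : R *ᵥ w = w := by
      rw [← sub_eq_zero, ← hw1, Matrix.sub_mulVec, Matrix.one_mulVec]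
    rw [hR', hc, Matrix.mulVec_mulVec, Units.mul_inv_cancel_right, ← Matrix.mulVec_mulVec, hRw]
  have hciso : 4 * c 0 * c 2 = c 1 * c 1 := by
    have e : c ⬝ᵥ ((Pᵀ * J * P) *ᵥ c) = q w w := by
      have hPw : P *ᵥ c = w := by
        rw [hc, ← hU₀, Matrix.mulVec_mulVec, Units.mul_inv, Matrix.one_mulVec]
      rw [← Matrix.mulVec_mulVec, hPw, ← Matrix.mulVec_mulVec, Matrix.dotProduct_mulVec,
        ← Matrix.mulVec_transpose, Matrix.transpose_transpose, hPw]
    rw [qww, hP, Matrix.smul_mulVec, dotProduct_smul, smul_eq_mul, mul_eq_zero] at e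
    have e' := e.resolve_left (neg_ne_zero.2 hκ0)
    simp [formJ, Matrix.mulVec, dotProduct, Fin.sum_univ_three] at e'
    linear_combination e'
  have hc2 : c 2 ≠ 0 := fun h0 => by
    have hc1 : c 1 = 0 := mul_self_eq_zero.1 (by rw [← hciso, h0, mul_zero])
    have hcs : c = c 0 • Pi.single 0 1 := by
      funext i; fin_cases i <;> simp [hc1, h0]
    have hc00 : c 0 ≠ 0 := fun h => hc0 (by rw [hcs, h, zero_smul])
    have he : R' *ᵥ Pi.single 0 1 = Pi.single 0 1 := by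
      rw [hcs, Matrix.mulVec_smul] at hRc
      exact smul_right_injective _ hc00 hRc
    have hR'up : R' = symSq (up (R' 0 1)) :=
      eq_symSq_up h2k (hform R hR) ((hdetc R).trans hRd)
        (by simpa using hcol' _ 0 0 he 0) (by simpa using hcol' _ 0 0 he 1) (by simpa using hcol' _ 0 0 he 2)
    exact hne' (by rw [hS'up, hR'up, ← map_mul, ← map_mul, up_mul, up_mul, add_comm])
  set r := c 1 / (2 * c 2) with hr
  let W : (Matrix (Fin 3) (Fin 3) k)ˣ := Units.map symSq (toUnits (up r))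
  have hWv : W.val = symSq (up r) := rfl
  have hWi : (W⁻¹).val = symSq (up r)⁻¹ := rfl
  have hWc : W.val *ᵥ Pi.single 2 1 = (c 2)⁻¹ • c := by
    rw [hWv, symSq_up, Matrix.mulVec_single_one]
    funext i
    fin_cases i
    · simp [hr]; field_simp; linear_combination -hciso
    · simp [hr]; field_simp
    · simp [hc2]
  have hWform : ∀ T : Matrix (Fin 3) (Fin 3) k, Tᵀ * formJ * T = formJ →
      ((W⁻¹).val * T * W.val)ᵀ * formJ * ((W⁻¹).val * T * W.val) = formJ := by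
    intro T hT
    rw [Matrix.transpose_mul, Matrix.transpose_mul]
    calc W.valᵀ * (Tᵀ * (W⁻¹).valᵀ) * formJ * ((W⁻¹).val * T * W.val)
        = W.valᵀ * (Tᵀ * ((W⁻¹).valᵀ * formJ * (W⁻¹).val) * T) * W.val := by
          simp only [mul_assoc]
      _ = formJ := by rw [hWi, symSq_form, hT, hWv, symSq_form]
  have hWdet : ∀ T : Matrix (Fin 3) (Fin 3) k, ((W⁻¹).val * T * W.val).det = T.det := fun T => by
    rw [Matrix.det_units_conj']
  set R'' := (W⁻¹).val * R' * W.val with hR''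
  have hRe : R'' *ᵥ Pi.single 2 1 = Pi.single 2 1 := by
    rw [hR'', ← Matrix.mulVec_mulVec, ← Matrix.mulVec_mulVec, hWc, Matrix.mulVec_smul, hRc, ← hWc,
      Matrix.mulVec_mulVec, Units.inv_mul, Matrix.one_mulVec]
  have hR''lo : R'' = symSq (lo (R'' 2 1)) :=
    eq_symSq_lo h2k (hWform _ (hform R hR)) ((hWdet _).trans ((hdetc R).trans hRd))
      (by simpa using hcol' _ 2 2 hRe 0) (by simpa using hcol' _ 2 2 hRe 1) (by simpa using hcol' _ 2 2 hRe 2)
  have hb : R'' 2 1 ≠ 0 := fun h0 => hne' (by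
    have hl0 : lo (0 : k) = 1 := by apply ext_entries <;> simp [lo]
    rw [h0, hl0, map_one, hR''] at hR''lo
    have e' := congrArg (fun A => W.val * A * (W⁻¹).val) hR''lo
    simp only [mul_assoc, Units.mul_inv_cancel_left, Units.mul_inv, mul_one] at e'
    rw [e', one_mul, mul_one])
  refine ⟨U₀ * W, a, R'' 2 1, ha, hb, ?_, ?_, fun T hT => ?_⟩
  · rw [_root_.mul_inv_rev, Units.val_mul, Units.val_mul,
      show (W⁻¹).val * (U₀⁻¹).val * S * (U₀.val * W.val) = (W⁻¹).val * S' * W.val by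
        simp only [hS', mul_assoc], hS'up, hWi, hWv, ← map_mul, ← map_mul,
      up_inv, up_mul, up_mul]
    congr 2; ring
  · rw [_root_.mul_inv_rev, Units.val_mul, Units.val_mul,
      show (W⁻¹).val * (U₀⁻¹).val * R * (U₀.val * W.val) = R'' by
        simp only [hR'', hR', mul_assoc]]
    exact hR''lo
  · rw [_root_.mul_inv_rev, Units.val_mul, Units.val_mul,
      show (W⁻¹).val * (U₀⁻¹).val * T * (U₀.val * W.val) =
        (W⁻¹).val * ((U₀⁻¹).val * T * U₀.val) * W.val by simp only [mul_assoc]]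
    exact hWform _ (hform T hT)

/-- The standard form of a non-commuting pair. -/
theorem exists_standard (hp2 : p ≠ 2) (hx : orderOf x = p)
    (σ : G →* Matrix (Fin 3) (Fin 3) k) (J : Matrix (Fin 3) (Fin 3) k) (hJs : Jᵀ = J)
    (hJ : J.det ≠ 0) (hσ : ∀ g, (σ g)ᵀ * J * σ g = J)
    (h2 : (σ x - 1) ^ 2 ≠ 0) (h3 : (σ x - 1) ^ 3 = 0) {g₀ : G}
    (hne : σ x * σ (g₀ * x * g₀⁻¹) ≠ σ (g₀ * x * g₀⁻¹) * σ x) :
    ∃ (τ : G →* Matrix (Fin 3) (Fin 3) k) (a b : k), a ≠ 0 ∧ b ≠ 0 ∧ τ x = symSq (up a) ∧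
      τ (g₀ * x * g₀⁻¹) = symSq (lo b) ∧
      ∀ g, (τ g)ᵀ * formJ * τ g = formJ ∧ (τ g).det = 1 := by
  have h2k : (2 : k) ≠ 0 := Ring.two_ne_zero (by rwa [ringChar.eq k p])
  have hxp : x ^ p = 1 := by rw [← hx, pow_orderOf_eq_one]
  obtain ⟨τ₀, hτ₀, hnc, hτx⟩ := exists_special hp2 σ J hJ hσ hxp
  have hτx1 : τ₀ x = σ x := by simpa using hτx 1
  set y := g₀ * x * g₀⁻¹ with hy
  obtain ⟨U, a, b, ha, hb, hUS, hUR, hUf⟩ := exists_pair_form h2k hJs hJ (hτ₀ x).1 (hτ₀ y).1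
    (hτ₀ x).2 (hτ₀ y).2 (by rwa [hτx1]) (by rwa [hτx1])
    (by
      intro h
      apply h2
      have e : σ y - 1 = σ g₀ * (σ x - 1) * σ g₀⁻¹ := by
        rw [hy, map_mul, map_mul, mul_sub, sub_mul, mul_one, ← map_mul σ g₀ g₀⁻¹, mul_inv_cancel,
          map_one]
      have hi : σ g₀⁻¹ * σ g₀ = 1 := by rw [← map_mul, inv_mul_cancel, map_one]
      have hi' : σ g₀ * σ g₀⁻¹ = 1 := by rw [← map_mul, mul_inv_cancel, map_one]
      rw [hτx, sq, e] at h
      calc (σ x - 1) ^ 2 = σ g₀⁻¹ * (σ g₀ * (σ x - 1) * σ g₀⁻¹ * (σ g₀ * (σ x - 1) * σ g₀⁻¹)) *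
            σ g₀ := by
            simp only [mul_assoc, hi, mul_one, ← mul_assoc (σ g₀⁻¹) (σ g₀), one_mul, sq]
        _ = 0 := by rw [h, mul_zero, zero_mul])
    (by
      have hi : σ g₀⁻¹ * σ g₀ = 1 := by rw [← map_mul, inv_mul_cancel, map_one]
      have e : σ y - 1 = σ g₀ * (σ x - 1) * σ g₀⁻¹ := by
        rw [hy, map_mul, map_mul, mul_sub, sub_mul, mul_one, ← map_mul σ g₀ g₀⁻¹, mul_inv_cancel,
          map_one]
      rw [hτx, e, pow_succ, sq]
      simp only [mul_assoc, ← mul_assoc (σ g₀⁻¹) (σ g₀), hi, one_mul]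
      rw [← mul_assoc (σ x - 1) (σ x - 1), ← mul_assoc, ← mul_assoc, mul_assoc (σ g₀), ← sq,
        ← pow_succ, h3, mul_zero, zero_mul])
    (hnc _ _ hne)
  let τ : G →* Matrix (Fin 3) (Fin 3) k :=
    { toFun := fun g => (U⁻¹).val * τ₀ g * U.val
      map_one' := by simp
      map_mul' := fun g h => by
        simp only [map_mul, mul_assoc, Units.mul_inv_cancel_left] }
  exact ⟨τ, a, b, ha, hb, hUS, hUR, fun g => ⟨hUf _ (hτ₀ g).1,
    (Matrix.det_units_conj' U (τ₀ g)).trans (hτ₀ g).2⟩⟩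

/-- The elements of `SL₂` whose symmetric square is in the image. -/
def preim (τ : G →* Matrix (Fin 3) (Fin 3) k) : Subgroup SL where
  carrier := {g | ∃ h : G, τ h = symSq g}
  one_mem' := ⟨1, by simp⟩
  mul_mem' := by
    rintro g g' ⟨h, hh⟩ ⟨h', hh'⟩
    exact ⟨h * h', by rw [map_mul, map_mul, hh, hh']⟩
  inv_mem' := by
    rintro g ⟨h, hh⟩
    refine ⟨h⁻¹, ?_⟩
    calc τ h⁻¹ = τ h⁻¹ * (symSq g * symSq g⁻¹) := by
          rw [← map_mul symSq, mul_inv_cancel, map_one, mul_one]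
      _ = symSq g⁻¹ := by
          rw [← mul_assoc, ← hh, ← map_mul τ, inv_mul_cancel, map_one, one_mul]

instance finite_preim (τ : G →* Matrix (Fin 3) (Fin 3) k) : Finite (preim τ) := by
  classical
  let φ := (symSq (k := k)).toHomUnits.comp (preim τ).subtype
  refine (MonoidHom.finite_iff_finite_ker_range φ).2 ⟨?_, ?_⟩
  · refine Finite.of_injective (fun g : φ.ker => decide ((g.1.1 : SL) = 1)) ?_
      (α := φ.ker) (β := Bool)
    intro g g' e
    have hk : ∀ g : φ.ker, symSq (g.1.1 : SL) = 1 := fun g =>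
      congrArg Units.val (MonoidHom.mem_ker.1 g.2)
    apply Subtype.ext; apply Subtype.ext
    rcases symSq_eq_one (hk g) with h | h <;> rcases symSq_eq_one (hk g') with h' | h' <;>
      simp only [decide_eq_decide, h, h'] at e ⊢
    · exact (e.1 trivial).symm
    · exact e.2 trivial
  · have hs : Set.range (fun g => (τ.toHomUnits g)) |>.Finite := Set.finite_range _
    refine (hs.subset ?_).to_subtype
    rintro _ ⟨⟨g, h, hh⟩, rfl⟩
    exact ⟨h, Units.ext hh⟩

/-- An exponent of `x` visible in a homomorphic image is induced by an element normalising `x`. -/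
theorem lift_exponent {Mo : Type*} [Monoid Mo] (hx : orderOf x = p) (hsq : ¬ p ^ 2 ∣ Nat.card G)
    (τ : G →* Mo) (hτxne : τ x ≠ 1) {g : G} {j : ℕ} (hgx : τ (g * x * g⁻¹) = τ x ^ j) :
    ∃ (n : G) (l : ℕ), n * x * n⁻¹ = x ^ l ∧ (l : ZMod p) = (j : ZMod p) := by
  have hxp : x ^ p = 1 := by rw [← hx, pow_orderOf_eq_one]
  have hτxp : τ x ^ p = 1 := by rw [← map_pow, hxp, map_one]
  have hsylcard : ∀ g : G, orderOf g = p →
      ∃ S : Sylow p G, (S : Subgroup G) = Subgroup.zpowers g := by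
    intro g hg
    have hP : IsPGroup p (Subgroup.zpowers g) :=
      IsPGroup.of_card (n := 1) (by rw [Nat.card_zpowers, hg, pow_one])
    obtain ⟨S, hS⟩ := hP.exists_le_sylow
    refine ⟨S, (Subgroup.eq_of_le_of_card_ge hS ?_).symm⟩
    obtain ⟨l, hl⟩ := IsPGroup.iff_card.1 S.isPGroup'
    rw [Nat.card_zpowers, hg, hl]
    rcases Nat.lt_or_ge l 2 with hl2 | hl2
    · exact le_trans (Nat.pow_le_pow_right hp.out.pos (show l ≤ 1 by omega)) (pow_one p).le
    · exact absurd ((pow_dvd_pow p hl2).trans (hl ▸ Subgroup.card_subgroup_dvd_card _)) hsq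
  obtain ⟨S, hS⟩ := hsylcard x hx
  let M : Subgroup G := (Subgroup.zpowers (τ.toHomUnits x)).comap τ.toHomUnits
  have hxM : x ∈ M := Subgroup.mem_zpowers (τ.toHomUnits x)
  have hgM : g * x * g⁻¹ ∈ M := by
    show τ.toHomUnits (g * x * g⁻¹) ∈ Subgroup.zpowers (τ.toHomUnits x)
    have : τ.toHomUnits (g * x * g⁻¹) = τ.toHomUnits x ^ j := Units.ext (by rw [Units.val_pow_eq_pow_val]; exact hgx)
    rw [this]; exact Subgroup.npow_mem_zpowers _ _
  obtain ⟨S', hS'⟩ := hsylcard (g * x * g⁻¹) (by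
    rw [← hx]; exact orderOf_injective (MulAut.conj g).toMonoidHom (MulAut.conj g).injective x)
  have hle : (S : Subgroup G) ≤ M := by rw [hS, Subgroup.zpowers_le]; exact hxM
  have hle' : (S' : Subgroup G) ≤ M := by rw [hS', Subgroup.zpowers_le]; exact hgM
  haveI : Finite (Sylow p M) := inferInstance
  obtain ⟨t, ht⟩ := MulAction.exists_smul_eq M (S'.subtype hle') (S.subtype hle)
  have htx : (t : G) * (g * x * g⁻¹) * (t : G)⁻¹ ∈ Subgroup.zpowers x := by
    rw [← hS]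
    have hmem : t * ⟨g * x * g⁻¹, hgM⟩ * t⁻¹ ∈ ((S.subtype hle : Sylow p M) : Subgroup M) := by
      rw [← ht, Sylow.coe_subgroup_smul]
      refine ⟨⟨g * x * g⁻¹, hgM⟩, ?_, rfl⟩
      show g * x * g⁻¹ ∈ (S' : Subgroup G)
      rw [hS']; exact Subgroup.mem_zpowers _
    exact hmem
  obtain ⟨l, hl⟩ := (mem_powers_iff_mem_zpowers).2 htx
  refine ⟨(t : G) * g, l, by
    rw [show (t : G) * g * x * ((t : G) * g)⁻¹ = (t : G) * (g * x * g⁻¹) * (t : G)⁻¹ by group]
    exact hl.symm, ?_⟩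
  obtain ⟨s, hs⟩ := Subgroup.mem_zpowers_iff.1 t.2
  have ht' : τ.toHomUnits (t : G) = τ.toHomUnits x ^ s := hs.symm
  have hlj : τ.toHomUnits x ^ l = τ.toHomUnits x ^ j := by
    have hgu : τ.toHomUnits (g * x * g⁻¹) = τ.toHomUnits x ^ j := Units.ext (by rw [Units.val_pow_eq_pow_val]; exact hgx)
    have hl' : τ.toHomUnits (x ^ l) = τ.toHomUnits ((t : G) * (g * x * g⁻¹) * (t : G)⁻¹) :=
      congrArg _ hl
    rw [map_pow, map_mul, map_mul, map_inv, hgu, ht',
      ((Commute.refl (τ.toHomUnits x)).zpow_left s).pow_right j |>.eq, mul_inv_cancel_right] at hl'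
    exact hl'
  have hox : orderOf (τ.toHomUnits x) = p := orderOf_eq_prime
    (Units.ext (by simpa using hτxp)) fun h1 => hτxne (by simpa using congrArg Units.val h1)
  rw [pow_eq_pow_iff_modEq, hox] at hlj
  exact (ZMod.natCast_eq_natCast_iff _ _ _).2 hlj

/-- The squares are induced on the Sylow subgroup. -/
theorem exists_square_exponent (hp2 : p ≠ 2) (hx : orderOf x = p) (hsq : ¬ p ^ 2 ∣ Nat.card G)
    (σ : G →* Matrix (Fin 3) (Fin 3) k) (J : Matrix (Fin 3) (Fin 3) k) (hJs : Jᵀ = J)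
    (hJ : J.det ≠ 0) (hσ : ∀ g, (σ g)ᵀ * J * σ g = J)
    (h2 : (σ x - 1) ^ 2 ≠ 0) (h3 : (σ x - 1) ^ 3 = 0) {g₀ : G}
    (hne : σ x * σ (g₀ * x * g₀⁻¹) ≠ σ (g₀ * x * g₀⁻¹) * σ x) :
    ∃ (n : G) (j : ℕ), n * x * n⁻¹ = x ^ j ∧ (p - 1) / 2 ≤ orderOf (j : ZMod p) := by
  have h2k : (2 : k) ≠ 0 := Ring.two_ne_zero (by rwa [ringChar.eq k p])
  have hxp : x ^ p = 1 := by rw [← hx, pow_orderOf_eq_one]
  obtain ⟨τ, a, b, ha, hb, hτxv, hτyv, -⟩ := exists_standard hp2 hx σ J hJs hJ hσ h2 h3 hne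
  set y := g₀ * x * g₀⁻¹ with hy
  have hupne : ∀ t : k, t ≠ 0 → symSq (up t) ≠ 1 := fun t ht h => by
    have := congrFun (congrFun h 0) 1
    rw [symSq_up] at this
    simp at this
    exact ht this
  classical
  set Γ := preim τ with hΓ
  have hua : up a ∈ Γ := ⟨x, hτxv⟩
  have hlb : lo b ∈ Γ := ⟨y, hτyv⟩
  obtain ⟨H, hH, ⟨e⟩⟩ := dickson p hp2 Γ ⟨up a, hua, lo b, hlb, trace_up a, by
      simp [lo, Matrix.trace_fin_two]; norm_num, fun h => by
      have := congrArg (fun g : SL => g.1 0 0) h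
      beta_reduce at this
      rw [mul_entry, mul_entry] at this
      simp [up, lo, ha, hb] at this⟩
  obtain ⟨rt, hrt⟩ := IsCyclic.exists_generator (α := (ZMod p)ˣ)
  have hordr : orderOf rt = p - 1 := by
    rw [orderOf_eq_card_of_forall_mem_zpowers hrt, Nat.card_eq_fintype_card, ZMod.card_units]
  let D : Matrix.SpecialLinearGroup (Fin 2) (ZMod p) :=
    ⟨!![(rt : ZMod p), 0; 0, ((rt⁻¹ : (ZMod p)ˣ) : ZMod p)], by
      rw [Matrix.det_fin_two_of, mul_zero, sub_zero, Units.mul_inv]⟩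
  set j := ((rt : ZMod p) ^ 2).val with hj
  have hDu : D * up 1 * D⁻¹ = up (1 : ZMod p) ^ j := by
    rw [mul_inv_eq_iff_eq_mul, up_pow, hj, mul_one, ZMod.natCast_zmod_val]
    have hu := Units.mul_inv rt
    apply ext_entries <;> rw [mul_entry, mul_entry] <;>
      simp only [D, up, Matrix.cons_val', Matrix.cons_val_zero, Matrix.cons_val_one, Matrix.of_apply]
    all_goals first | linear_combination (-(rt : ZMod p)) * hu | linear_combination (0 : ZMod p) * hu
  set h := e.symm (up 1) with hh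
  set n₁ := e.symm D with hn₁
  have hrel : (n₁ : SL) * h * (n₁ : SL)⁻¹ = (h : SL) ^ j := by
    have := congrArg e.symm hDu
    rw [map_mul, map_mul, map_inv, map_pow] at this
    exact congrArg (fun g : H => (g : SL)) this
  have hhp : (h : SL) ^ p = 1 := by
    have h1 : up (1 : ZMod p) ^ p = 1 := by rw [up_pow, ZMod.natCast_self, zero_mul, up_zero]
    have := congrArg e.symm h1
    rw [map_pow, map_one] at this
    exact congrArg (fun g : H => (g : SL)) this
  have hh1 : (h : SL) ≠ 1 := fun h1 => by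
    have h2' : h = 1 := Subtype.ext h1
    have := congrArg e h2'
    rw [hh, MulEquiv.apply_symm_apply, map_one] at this
    have := congrArg (fun g : Matrix.SpecialLinearGroup (Fin 2) (ZMod p) => g.1 0 1) this
    simp [up] at this
  obtain ⟨g₁, hg₁⟩ := hH h.2
  obtain ⟨g₂, hg₂⟩ := hH n₁.2
  have hg₁1 : τ g₁ ≠ 1 := fun h1 => by
    rw [h1] at hg₁
    rcases symSq_eq_one hg₁.symm with h' | h'
    · exact hh1 h'
    · rw [h'] at hhp
      obtain ⟨m, hm⟩ := hp.out.odd_of_ne_two hp2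
      have h11 := congrArg (fun g : SL => g.1 0 0) hhp
      rw [hm, pow_succ, pow_mul, neg_one_sq, one_pow, one_mul] at h11
      simp at h11
      exact h2k (by linear_combination -h11)
  have hτg₁p : τ g₁ ^ p = 1 := by rw [hg₁, ← map_pow, hhp, map_one]
  have hτrel : τ (g₂ * g₁ * g₂⁻¹) = τ g₁ ^ j := by
    have hinv : τ g₂⁻¹ = symSq (n₁ : SL)⁻¹ := by
      calc τ g₂⁻¹ = τ g₂⁻¹ * (symSq (n₁ : SL) * symSq (n₁ : SL)⁻¹) := by
            rw [← map_mul symSq, mul_inv_cancel, map_one, mul_one]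
        _ = symSq (n₁ : SL)⁻¹ := by
            rw [← mul_assoc, ← hg₂, ← map_mul τ, inv_mul_cancel, map_one, one_mul]
    rw [map_mul, map_mul, hinv, hg₁, hg₂, ← map_mul, ← map_mul, hrel, map_pow]
  -- replace the element by one of order `p`
  have hcard : ∃ m, Nat.card G = p * m ∧ ¬ p ∣ m := by
    obtain ⟨m, hm⟩ : p ∣ Nat.card G := hx ▸ orderOf_dvd_natCard x
    exact ⟨m, hm, fun ⟨l, hl⟩ => hsq ⟨l, by rw [hm, hl, sq, mul_assoc]⟩⟩
  obtain ⟨m, hm, hpm⟩ := hcard
  obtain ⟨m', hm'⟩ : ∃ m', (m * m') % p = 1 := by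
    have hm0 : (m : ZMod p) ≠ 0 := by rwa [Ne, ZMod.natCast_eq_zero_iff]
    refine ⟨((m : ZMod p)⁻¹).val, ?_⟩
    rw [← ZMod.val_natCast, Nat.cast_mul, ZMod.natCast_zmod_val, mul_inv_cancel₀ hm0, ZMod.val_one]
  set g₃ := g₁ ^ (m * m') with hg₃
  have hτg₃ : τ g₃ = τ g₁ := by
    rw [hg₃, map_pow, pow_eq_pow_mod _ hτg₁p, hm', pow_one]
  have hτxne : τ x ≠ 1 := hτxv ▸ hupne a ha
  have hg₃o : orderOf g₃ = p := by
    refine orderOf_eq_prime ?_ fun h1 => hg₁1 (by rw [← hτg₃, h1, map_one])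
    rw [hg₃, ← pow_mul, show m * m' * p = p * m * m' by ring, ← hm, pow_mul, pow_card_eq_one',
      one_pow]
  -- Sylow subgroups
  have hsylcard : ∀ g : G, orderOf g = p →
      ∃ S : Sylow p G, (S : Subgroup G) = Subgroup.zpowers g := by
    intro g hg
    have hP : IsPGroup p (Subgroup.zpowers g) :=
      IsPGroup.of_card (n := 1) (by rw [Nat.card_zpowers, hg, pow_one])
    obtain ⟨S, hS⟩ := hP.exists_le_sylow
    refine ⟨S, (Subgroup.eq_of_le_of_card_ge hS ?_).symm⟩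
    obtain ⟨l, hl⟩ := IsPGroup.iff_card.1 S.isPGroup'
    rw [Nat.card_zpowers, hg, hl]
    rcases Nat.lt_or_ge l 2 with hl2 | hl2
    · exact le_trans (Nat.pow_le_pow_right hp.out.pos (show l ≤ 1 by omega)) (pow_one p).le
    · exact absurd ((pow_dvd_pow p hl2).trans (hl ▸ Subgroup.card_subgroup_dvd_card _)) hsq
  obtain ⟨S₁, hS₁⟩ := hsylcard g₃ hg₃o
  obtain ⟨S, hS⟩ := hsylcard x hx
  obtain ⟨c, hc⟩ := MulAction.exists_smul_eq G S₁ S
  have hcx : c * g₃ * c⁻¹ ∈ Subgroup.zpowers x := by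
    rw [← hS, ← hc, Sylow.coe_subgroup_smul, hS₁]
    exact ⟨g₃, Subgroup.mem_zpowers g₃, rfl⟩
  obtain ⟨i, -, hi⟩ : ∃ i < p, x ^ i = c * g₃ * c⁻¹ := by
    obtain ⟨i, hi⟩ := (mem_powers_iff_mem_zpowers).2 hcx
    exact ⟨i % p, Nat.mod_lt _ hp.out.pos, by rw [← hi]; exact (pow_eq_pow_mod _ hxp).symm⟩
  set g := c * g₂ * c⁻¹ with hg
  have hgrel : τ (g * x ^ i * g⁻¹) = τ x ^ (i * j) := by
    rw [pow_mul, ← map_pow τ x i, hi, hg,
      show c * g₂ * c⁻¹ * (c * g₃ * c⁻¹) * (c * g₂ * c⁻¹)⁻¹ = c * (g₂ * g₃ * g₂⁻¹) * c⁻¹ by group,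
      map_mul τ _ c⁻¹, map_mul τ c]
    have e2 : τ (g₂ * g₃ * g₂⁻¹) = τ g₃ ^ j := by
      rw [map_mul, map_mul, hτg₃, ← map_mul, ← map_mul, hτrel]
    rw [e2, ← map_pow, ← map_mul, ← map_mul, ← map_pow, conj_pow]
  have hi0 : ¬ p ∣ i := fun h => by
    obtain ⟨l, rfl⟩ := h
    rw [pow_mul, hxp, one_pow, eq_comm, mul_inv_eq_one, mul_eq_left] at hi
    rw [hi, orderOf_one] at hg₃o
    exact hp.out.one_lt.ne hg₃o
  obtain ⟨i', hi'⟩ : ∃ i', (i * i') % p = 1 := by
    have hm0 : (i : ZMod p) ≠ 0 := by rwa [Ne, ZMod.natCast_eq_zero_iff]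
    refine ⟨((i : ZMod p)⁻¹).val, ?_⟩
    rw [← ZMod.val_natCast, Nat.cast_mul, ZMod.natCast_zmod_val, mul_inv_cancel₀ hm0, ZMod.val_one]
  have hτxp : τ x ^ p = 1 := by rw [← map_pow, hxp, map_one]
  have hgx : τ (g * x * g⁻¹) = τ x ^ j := by
    have h1 := congrArg (· ^ i') hgrel
    simp only [← map_pow, conj_pow, ← pow_mul] at h1
    rw [pow_eq_pow_mod (i * i') hxp, hi', pow_one, map_pow,
      show i * j * i' = (i * i') * j by ring, pow_mul, pow_eq_pow_mod (i * i') hτxp, hi',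
      pow_one] at h1
    exact h1
  obtain ⟨n', l, hl, hlj⟩ := lift_exponent hx hsq τ hτxne hgx
  refine ⟨n', l, hl, ?_⟩
  rw [hlj, hj, ZMod.natCast_zmod_val, ← Units.val_pow_eq_pow_val,
    orderOf_units, orderOf_pow' rt two_ne_zero, hordr]
  rcases Nat.gcd_dvd_right (p - 1) 2 |> (Nat.dvd_prime Nat.prime_two).1 with h | h <;> rw [h] <;>
    omega

end CfsgLib.SmallRep
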