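import Mathlib

/-!
# Reduction of a complex representation modulo a place above `p`

A faithful complex representation of a finite group has a representation of the same degree over a
field of characteristic `p` whose kernel is a `p`-group.
-/

namespace CfsgLib.SmallRep

open Matrix

set_option linter.style.haveILetI false

/-- Reduction modulo a prime. -/
theorem exists_reduction {G : Type*} [Group G] [Finite G] {p : ℕ} (hp : p.Prime) {f : ℕ}
    (ρ : G →* Matrix (Fin f) (Fin f) ℂ) (hρ : Function.Injective ρ) :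
    ∃ (k : Type) (_ : Field k) (_ : CharP k p) (σ : G →* Matrix (Fin f) (Fin f) k),
      ∀ g, σ g = 1 → ∃ n, g ^ p ^ n = 1 := by
  classical
  set A := (Int.castRingHom ℂ).range with hA
  have hpA : (p : ℂ) ∈ A := ⟨p, by simp⟩
  have hI : Ideal.span {(⟨(p : ℂ), hpA⟩ : A)} ≠ ⊤ := by
    rw [Ne, Ideal.span_singleton_eq_top]
    intro hu
    obtain ⟨⟨u, m, rfl⟩, hm⟩ := hu.exists_right_inv
    have h1 : ((p : ℂ) * (m : ℂ)) = 1 := by simpa using congrArg Subtype.val hm
    have h2 : (p : ℤ) * m = 1 := by exact_mod_cast h1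
    exact hp.ne_one (by simpa using Int.eq_one_of_mul_eq_one_right (by positivity) h2)
  obtain ⟨B, -, hB⟩ := Ideal.image_subset_nonunits_valuationSubring _ hI
  have hpB : (p : ℂ) ∈ B.nonunits := hB ⟨⟨(p : ℂ), hpA⟩, Ideal.subset_span rfl, rfl⟩
  -- the lattice
  set s : Set (Fin f → ℂ) :=
    Set.range (fun gi : G × Fin f => ρ gi.1 *ᵥ Pi.single gi.2 1) with hs
  let Λ : Submodule B (Fin f → ℂ) := Submodule.span B s
  haveI : Finite (G × Fin f) := inferInstance
  haveI : Module.Finite B Λ := Module.Finite.iff_fg.2 (Submodule.fg_span (Set.finite_range _))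
  haveI : Module.Flat B Λ := by
    rw [Module.Flat.flat_iff_torsion_eq_bot_of_isBezout, Submodule.eq_bot_iff]
    rintro x ⟨⟨c, hc⟩, hcx⟩
    have h1 : (c : ℂ) • (x : Fin f → ℂ) = 0 := congrArg Subtype.val hcx
    have hc0 : (c : ℂ) ≠ 0 := fun h => nonZeroDivisors.ne_zero hc (Subtype.ext h)
    exact Subtype.ext ((smul_eq_zero.1 h1).resolve_left hc0)
  haveI : Module.Free B Λ := Module.free_of_flat_of_isLocalRing
  let b := Module.finBasis B Λ
  set n := Module.finrank B Λ with hn
  have hli : LinearIndependent ℂ (fun i => ((b i : Λ) : Fin f → ℂ)) := by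
    rw [← LinearIndependent.iff_fractionRing B ℂ]
    exact b.linearIndependent.map' Λ.subtype (Submodule.ker_subtype Λ)
  have hsingle : ∀ i, Pi.single i 1 ∈ Λ := fun i => Submodule.subset_span ⟨(1, i), by show ρ 1 *ᵥ _ = _; rw [map_one, Matrix.one_mulVec]⟩
  have hspan : Submodule.span ℂ (Set.range fun i => ((b i : Λ) : Fin f → ℂ)) = ⊤ := by
    rw [eq_top_iff]
    intro v _
    rw [pi_eq_sum_univ' v]
    refine Submodule.sum_mem _ fun i _ => Submodule.smul_mem _ _ ?_
    have h1 := congrArg (fun z : Λ => (z : Fin f → ℂ)) (b.sum_repr ⟨_, hsingle i⟩)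
    simp only [Submodule.coe_sum, Submodule.coe_smul] at h1
    rw [← h1]
    exact Submodule.sum_mem _ fun j _ => by
      rw [show b.repr ⟨_, hsingle i⟩ j • ((b j : Λ) : Fin f → ℂ) =
        ((b.repr ⟨_, hsingle i⟩ j : B) : ℂ) • ((b j : Λ) : Fin f → ℂ) from rfl]
      exact Submodule.smul_mem _ _ (Submodule.subset_span ⟨j, rfl⟩)
  have hnf : n = f := by
    have h1 := Module.finrank_eq_card_basis (Module.Basis.mk hli hspan.ge)
    simpa using h1.symm
  have hstab : ∀ g, ∀ v ∈ Λ, ρ g *ᵥ v ∈ Λ := by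
    intro g v hv
    induction hv using Submodule.span_induction with
    | mem w hw =>
      obtain ⟨⟨h, i⟩, rfl⟩ := hw
      exact Submodule.subset_span ⟨(g * h, i), by
        show ρ (g * h) *ᵥ _ = ρ g *ᵥ (ρ h *ᵥ _)
        rw [map_mul, Matrix.mulVec_mulVec]⟩
    | zero => simp
    | add u w _ _ hu hw => rw [Matrix.mulVec_add]; exact Λ.add_mem hu hw
    | smul c w _ hw =>
      rw [show c • w = (c : ℂ) • w from rfl, Matrix.mulVec_smul]
      exact Λ.smul_mem c hw
  let E : G →* Module.End B Λ :=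
    { toFun := fun g =>
        { toFun := fun v => ⟨ρ g *ᵥ (v : Fin f → ℂ), hstab g _ v.2⟩
          map_add' := fun u v => Subtype.ext (show ρ g *ᵥ ((u : Fin f → ℂ) + v) =
            ρ g *ᵥ (u : Fin f → ℂ) + ρ g *ᵥ (v : Fin f → ℂ) from Matrix.mulVec_add _ _ _)
          map_smul' := fun c v => Subtype.ext (show ρ g *ᵥ ((c : ℂ) • (v : Fin f → ℂ)) =
            (c : ℂ) • (ρ g *ᵥ (v : Fin f → ℂ)) from Matrix.mulVec_smul _ _ _) }
      map_one' := LinearMap.ext fun v => Subtype.ext (by simp)
      map_mul' := fun g h => LinearMap.ext fun v => Subtype.ext (by simp [Matrix.mulVec_mulVec]) }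
  have hEinj : ∀ g, E g = 1 → g = 1 := fun g hg => hρ (by
    rw [map_one]
    refine Matrix.ext_iff_mulVec.2 fun v => ?_
    rw [pi_eq_sum_univ' v, Matrix.mulVec_sum, Matrix.mulVec_sum]
    refine Finset.sum_congr rfl fun i _ => ?_
    rw [Matrix.mulVec_smul, Matrix.mulVec_smul, Matrix.one_mulVec]
    congr 1
    exact congrArg Subtype.val (LinearMap.congr_fun hg ⟨_, hsingle i⟩))
  let b' := b.reindex (finCongr hnf)
  let σB : G →* Matrix (Fin f) (Fin f) B := (LinearMap.toMatrixAlgEquiv b').toMonoidHom.comp E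
  have hσinj : ∀ g, σB g = 1 → g = 1 := fun g hg => hEinj g
    ((LinearMap.toMatrixAlgEquiv b').injective (hg.trans (map_one _).symm))
  let red : B →+* IsLocalRing.ResidueField B := IsLocalRing.residue B
  have hpred : ((p : ℕ) : IsLocalRing.ResidueField B) = 0 := by
    rw [← map_natCast red, IsLocalRing.residue_eq_zero_iff]
    have h2 : (p : ℂ) ∈ Subtype.val '' (IsLocalRing.maximalIdeal B : Set B) := by
      rw [B.image_maximalIdeal]; exact hpB
    obtain ⟨z, hz, hzp⟩ := h2
    have : z = (p : B) := Subtype.ext (by simpa using hzp)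
    exact this ▸ hz
  haveI hchar : CharP (IsLocalRing.ResidueField B) p := by
    have h1 := CharP.ringChar_of_prime_eq_zero hp hpred
    rw [← h1]; exact ringChar.charP _
  refine ⟨IsLocalRing.ResidueField B, inferInstance, hchar,
    (RingHom.mapMatrix red).toMonoidHom.comp σB, fun g hg => ?_⟩
  obtain ⟨a, m, hm, hgo⟩ := Nat.exists_eq_pow_mul_and_not_dvd (orderOf_pos g).ne' p hp.ne_one
  refine ⟨a, hσinj _ ?_⟩
  set M := σB (g ^ p ^ a) with hM
  have hred : (RingHom.mapMatrix red) M = 1 := by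
    have h1 : (RingHom.mapMatrix red) (σB g) = 1 := hg
    rw [hM, map_pow, map_pow, h1, one_pow]
  have hMm : M ^ m = 1 := by
    rw [hM, ← map_pow, ← pow_mul, ← hgo, pow_orderOf_eq_one, map_one]
  have hprod : (∑ i ∈ Finset.range m, M ^ i) * (M - 1) = 0 := by
    rw [geom_sum_mul, hMm, sub_self]
  have hunit : IsUnit (∑ i ∈ Finset.range m, M ^ i) := by
    rw [Matrix.isUnit_iff_isUnit_det]
    have h1 : red (∑ i ∈ Finset.range m, M ^ i).det =
        ((m : ℕ) : IsLocalRing.ResidueField B) ^ f := by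
      rw [RingHom.map_det, map_sum]
      simp only [map_pow, hred, one_pow, Finset.sum_const, Finset.card_range]
      rw [← Matrix.diagonal_one, ← Matrix.diagonal_smul, Matrix.det_diagonal]
      simp [nsmul_eq_mul]
    have hm0 : ((m : ℕ) : IsLocalRing.ResidueField B) ≠ 0 := by
      rw [Ne, CharP.cast_eq_zero_iff _ p]; exact hm
    by_contra hnu
    have h2 := (IsLocalRing.residue_eq_zero_iff _).2 ((IsLocalRing.mem_maximalIdeal _).2 hnu)
    exact pow_ne_zero f hm0 (h1 ▸ h2)
  exact sub_eq_zero.1 (hunit.mul_right_eq_zero.1 hprod)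

end CfsgLib.SmallRep
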