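import Mathlib

/-!
# Lifting an equivariant projection from the normalizer of a Sylow subgroup of prime order

If the unipotent element of order `p` has nilpotency degree less than `p`, a projection commuting
with the normalizer agrees, modulo maps lowering the kernel filtration, with the averaged map, and
hence gives an idempotent commuting with the whole group.
-/

namespace CfsgLib.SmallRep

open Polynomial

set_option linter.unusedSectionVars false
set_option linter.style.haveILetI false

variable {k : Type*} [Field k] {E : Type*} [AddCommGroup E] [Module k E]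

/-- Maps commuting with `T` that lower the kernel filtration of `T`. -/
def Lowers (T β : Module.End k E) : Prop :=
  Commute T β ∧ ∀ (j : ℕ) (v : E), (T ^ (j + 1)) v = 0 → (T ^ j) (β v) = 0

variable {T β γ : Module.End k E}

theorem Lowers.zero : Lowers T 0 := ⟨Commute.zero_right _, fun j v _ => by simp⟩

theorem Lowers.add (h : Lowers T β) (h' : Lowers T γ) : Lowers T (β + γ) :=
  ⟨h.1.add_right h'.1, fun j v hv => by simp [h.2 j v hv, h'.2 j v hv]⟩

theorem Lowers.neg (h : Lowers T β) : Lowers T (-β) :=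
  ⟨h.1.neg_right, fun j v hv => by simp [h.2 j v hv]⟩

theorem Lowers.smul (c : k) (h : Lowers T β) : Lowers T (c • β) :=
  ⟨h.1.smul_right c, fun j v hv => by simp [h.2 j v hv]⟩

theorem Lowers.mul_right (h : Lowers T β) (hγ : Commute T γ) : Lowers T (β * γ) :=
  ⟨h.1.mul_right hγ, fun j v hv => h.2 j (γ v) (by
    rw [← Module.End.mul_apply, (hγ.pow_left _).eq, Module.End.mul_apply, hv, map_zero])⟩

theorem Lowers.mul_left (h : Lowers T β) (hγ : Commute T γ) : Lowers T (γ * β) :=
  ⟨hγ.mul_right h.1, fun j v hv => by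
    rw [Module.End.mul_apply, ← Module.End.mul_apply, (hγ.pow_left _).eq, Module.End.mul_apply,
      h.2 j v hv, map_zero]⟩

theorem Lowers.isNilpotent {D : ℕ} (hT : T ^ D = 0) (h : Lowers T β) : IsNilpotent β := by
  refine ⟨D, LinearMap.ext fun v => ?_⟩
  suffices ∀ m ≤ D, (T ^ (D - m)) ((β ^ m) v) = 0 by simpa using this D le_rfl
  intro m hm
  induction m with
  | zero => simp [hT]
  | succ m ih =>
    rw [pow_succ', Module.End.mul_apply]
    exact h.2 _ _ (by rw [show D - (m + 1) + 1 = D - m by omega]; exact ih (by omega))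

variable {p : ℕ} [hp : Fact p.Prime] [CharP k p]

theorem geom_eq_pow : ∑ i ∈ Finset.range p, (X : k[X]) ^ i = (X - 1) ^ (p - 1) := by
  refine mul_right_cancel₀ (X_sub_C_ne_zero (1 : k)) ?_
  rw [map_one, geom_sum_mul, ← pow_succ, Nat.sub_add_cancel hp.out.pos, sub_pow_char, one_pow]

/-- The relative trace from the trivial subgroup lowers the filtration. -/
theorem lowers_trace {a ai : Module.End k E} (h1 : a * ai = 1) (h2 : ai * a = 1) (ha : a ^ p = 1)
    {D : ℕ} (hD : D ≤ p - 1) (hT : (a - 1) ^ D = 0) (Ψ : Module.End k E) :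
    Lowers (a - 1) (∑ i ∈ Finset.range p, a ^ i * Ψ * ai ^ i) := by
  classical
  let Y : Module.End k (Module.End k E) :=
    (LinearMap.mulRight k ai).comp (LinearMap.mulLeft k a)
  let Z : Module.End k (Module.End k E) := LinearMap.mulRight k ai
  let A : Module.End k (Module.End k E) := LinearMap.mulLeft k (a - 1)
  let B : Module.End k (Module.End k E) := LinearMap.mulRight k (a - 1)
  have hY : ∀ i : ℕ, (Y ^ i) Ψ = a ^ i * Ψ * ai ^ i := by
    intro i
    induction i with
    | zero => simp
    | succ i ih =>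
      rw [pow_succ', Module.End.mul_apply, ih]
      show a * (a ^ i * Ψ * ai ^ i) * ai = _
      simp only [pow_succ' a, pow_succ ai, mul_assoc]
  have hS : ∑ i ∈ Finset.range p, a ^ i * Ψ * ai ^ i = ((Y - 1) ^ (p - 1)) Ψ := by
    have h := congrArg (fun f : k[X] => aeval Y f Ψ) (geom_eq_pow (k := k) (p := p))
    simp only [map_sum, map_pow, aeval_X, map_sub, map_one, LinearMap.sum_apply, hY] at h
    exact h
  have hAB : Commute A B := LinearMap.ext fun β => (mul_assoc _ _ _).symm
  have hY1 : Y - 1 = (A - B) * Z := by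
    refine LinearMap.ext fun β => ?_
    show a * β * ai - β = (a - 1) * (β * ai) - β * ai * (a - 1)
    rw [sub_mul, mul_sub, one_mul, mul_one, mul_assoc β, h2, mul_one, mul_assoc]
    abel
  have haai : Commute a ai := h1.trans h2.symm
  have hcomm : Commute (A - B) Z := by
    refine LinearMap.ext fun β => ?_
    show (a - 1) * (β * ai) - β * ai * (a - 1) = ((a - 1) * β - β * (a - 1)) * ai
    rw [sub_mul ((a - 1) * β), mul_assoc (a - 1), mul_assoc β ai, mul_assoc β (a - 1),
      ((haai.sub_left (Commute.one_left _)).eq)]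
  rw [hS, hY1, hcomm.mul_pow, Module.End.mul_apply, sub_eq_add_neg A B,
    hAB.neg_right.add_pow]
  constructor
  · show Commute (a - 1) _
    have key : Commute a (∑ i ∈ Finset.range p, a ^ i * Ψ * ai ^ i) := by
      have e : a * (∑ i ∈ Finset.range p, a ^ i * Ψ * ai ^ i) * ai =
          ∑ i ∈ Finset.range p, a ^ i * Ψ * ai ^ i := by
        have hai : ai ^ p = 1 := by
          have := haai.mul_pow p; rw [h1, one_pow, ha, one_mul] at this; exact this.symm
        rw [Finset.mul_sum, Finset.sum_mul]
        have e2 : ∀ i : ℕ, a * (a ^ i * Ψ * ai ^ i) * ai = a ^ (i + 1) * Ψ * ai ^ (i + 1) :=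
          fun i => by simp only [pow_succ' a, pow_succ ai, mul_assoc]
        simp only [e2]
        have e3 := Finset.sum_range_succ' (fun i => a ^ i * Ψ * ai ^ i) p
        have e4 := Finset.sum_range_succ (fun i => a ^ i * Ψ * ai ^ i) p
        rw [e4, ha, hai] at e3
        simpa using e3.symm
      show a * _ = _ * a
      conv_rhs => rw [← e, mul_assoc _ ai, h2, mul_one]
    rw [hS, hY1, hcomm.mul_pow, Module.End.mul_apply, sub_eq_add_neg A B,
      hAB.neg_right.add_pow] at key
    exact key.sub_left (Commute.one_left _)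
  · intro j v hv
    simp only [LinearMap.sum_apply, map_sum]
    refine Finset.sum_eq_zero fun r hr => ?_
    have hr' := Finset.mem_range.1 hr
    generalize (Z ^ (p - 1)) Ψ = Φ
    rw [Module.End.mul_apply, Module.End.natCast_apply, neg_pow B, Module.End.mul_apply,
      Module.End.mul_apply]
    have hBp : ∀ Θ, (B ^ (p - 1 - r)) Θ = Θ * (a - 1) ^ (p - 1 - r) := fun Θ => by
      rw [show B = LinearMap.mulRight k (a - 1) from rfl, LinearMap.pow_mulRight]; rfl
    have hAp : ∀ Θ, (A ^ r) Θ = (a - 1) ^ r * Θ := fun Θ => by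
      rw [show A = LinearMap.mulLeft k (a - 1) from rfl, LinearMap.pow_mulLeft]; rfl
    have key : ∀ Θ, ((a - 1) ^ j) (((a - 1) ^ r * (Θ * (a - 1) ^ (p - 1 - r))) v) = 0 := by
      intro Θ
      rw [← Module.End.mul_apply, ← mul_assoc, ← pow_add, Module.End.mul_apply,
        Module.End.mul_apply]
      rcases Nat.lt_or_ge j (p - 1 - r) with h | h
      · obtain ⟨d, hd⟩ : ∃ d, p - 1 - r = d + (j + 1) := ⟨p - 1 - r - (j + 1), by omega⟩
        rw [hd, pow_add (a - 1) d, Module.End.mul_apply, hv, map_zero, map_zero, map_zero]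
      · rw [pow_eq_zero_of_le (show D ≤ j + r by omega) hT, LinearMap.zero_apply]
    rcases neg_one_pow_eq_or (Module.End k (Module.End k E)) (p - 1 - r) with h | h
    · rw [h, Module.End.one_apply, hBp, hAp]; exact key _
    · rw [h, LinearMap.neg_apply, Module.End.one_apply, map_neg, LinearMap.neg_apply, map_neg,
        hBp, hAp, key, neg_zero]

theorem Lowers.idem_lift {D : ℕ} (hT : T ^ D = 0) {τ π : Module.End k E} (hτ : Commute T τ)
    (hπ : Commute T π) (hπ2 : π * π = π) (hd : Lowers T (τ - π)) :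
    ∃ e u : Module.End k E, e * e = e ∧ e ∈ Algebra.adjoin k ({τ} : Set (Module.End k E)) ∧
      IsUnit u ∧ Commute T u ∧ e * u = u * π := by
  have hcong : ∀ n : ℕ, 0 < n → Lowers T (τ ^ n - π) := by
    intro n hn
    induction n, hn using Nat.le_induction with
    | base => simpa using hd
    | succ n _ ih =>
      have e : τ ^ (n + 1) - π = τ ^ n * (τ - π) + (τ ^ n - π) * π := by
        rw [pow_succ, mul_sub, sub_mul, hπ2]; abel
      rw [e]
      exact (hd.mul_left (hτ.pow_right n)).add (ih.mul_right hπ)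
  have hsq : Lowers T (τ - τ ^ 2) := by
    have e : τ - τ ^ 2 = (τ - π) + -(τ ^ 2 - π) := by abel
    rw [e]; exact hd.add (hcong 2 two_pos).neg
  obtain ⟨n, hn⟩ := hsq.isNilpotent hT
  have hn' : (τ - τ ^ 2) ^ (n + 1) = 0 := pow_eq_zero_of_le (Nat.le_succ n) hn
  let q : k[X] := 1 - (1 - X ^ (n + 1)) ^ (n + 1)
  have hq : (X - X ^ 2) ^ (n + 1) ∣ q * (1 - q) := by
    rw [show (X - X ^ 2 : k[X]) = X * (1 - X) by ring, mul_pow]
    refine mul_dvd_mul ?_ ?_
    · have h := sub_dvd_pow_sub_pow (1 : k[X]) (1 - X ^ (n + 1)) (n + 1)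
      rwa [sub_sub_cancel, one_pow] at h
    · rw [show (1 : k[X]) - q = (1 - X ^ (n + 1)) ^ (n + 1) by simp only [q]; ring]
      exact pow_dvd_pow_of_dvd (by simpa using sub_dvd_pow_sub_pow (1 : k[X]) X (n + 1)) _
  set e := aeval τ q with he
  have hee : e * (1 - e) = 0 := by
    obtain ⟨r, hr⟩ := hq
    have := congrArg (aeval τ) hr
    simpa [he, hn'] using this
  have he2 : e * e = e := by rw [mul_sub, mul_one, sub_eq_zero] at hee; exact hee.symm
  have heT : Commute T e := by
    rw [he]; simp only [q, map_sub, map_pow, map_one, aeval_X]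
    exact (Commute.one_right _).sub_right (((Commute.one_right _).sub_right (hτ.pow_right _)).pow_right _)
  have heπ : Lowers T (e - π) := by
    have hb : ∀ m : ℕ, 0 < m → Lowers T ((1 - τ ^ (n + 1)) ^ m - (1 - π)) := by
      intro m hm
      induction m, hm using Nat.le_induction with
      | base =>
        have e1 : (1 - τ ^ (n + 1)) ^ 1 - (1 - π) = -(τ ^ (n + 1) - π) := by rw [pow_one]; abel
        rw [e1]; exact (hcong _ (Nat.succ_pos n)).neg
      | succ m _ ih =>
        have e1 : (1 - τ ^ (n + 1)) ^ (m + 1) - (1 - π) =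
            (1 - τ ^ (n + 1)) ^ m * (-(τ ^ (n + 1) - π)) +
              ((1 - τ ^ (n + 1)) ^ m - (1 - π)) * (1 - π) := by
          rw [pow_succ]
          simp only [mul_sub, sub_mul, mul_neg, mul_one, one_mul, hπ2]
          abel
        rw [e1]
        exact ((hcong _ (Nat.succ_pos n)).neg.mul_left
          (((Commute.one_right _).sub_right (hτ.pow_right _)).pow_right m)).add
          (ih.mul_right ((Commute.one_right _).sub_right hπ))
    have e1 : e - π = -((1 - τ ^ (n + 1)) ^ (n + 1) - (1 - π)) := by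
      rw [he]; simp only [q, map_sub, map_pow, map_one, aeval_X]; abel
    rw [e1]; exact (hb _ (Nat.succ_pos n)).neg
  refine ⟨e, e * π + (1 - e) * (1 - π), he2, ?_, ?_, ?_, ?_⟩
  · rw [he]; exact aeval_mem_adjoin_singleton k τ
  · have e1 : e * π + (1 - e) * (1 - π) = 1 + ((e - π) * π + -((e - π) * (1 - π))) := by
      simp only [mul_sub, sub_mul, mul_one, one_mul, hπ2]; abel
    rw [e1]
    refine IsNilpotent.isUnit_one_add (Lowers.isNilpotent hT (T := T) ?_)
    exact (heπ.mul_right hπ).add (heπ.mul_right ((Commute.one_right _).sub_right hπ)).neg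
  · exact (heT.mul_right hπ).add_right
      (((Commute.one_right _).sub_right heT).mul_right ((Commute.one_right _).sub_right hπ))
  · simp only [mul_add, add_mul, ← mul_assoc, he2, hee, zero_mul, add_zero, mul_sub, sub_mul,
      mul_one, one_mul, mul_assoc e π π, hπ2, mul_assoc (1 : Module.End k E), sub_self]

/-- A set of representatives of the regular orbits of an element of order `p`. -/
theorem exists_reps {G C : Type*} [Group G] [MulAction G C] {y : G} (hy : y ^ p = 1) :
    ∃ ξ : C → k, ∀ c : C, (y • c = c → ξ c = 0) ∧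
      (y • c ≠ c → ∑ i ∈ Finset.range p, ξ (y ^ i • c) = 1) := by
  classical
  let R := MulAction.orbitRel (Subgroup.zpowers y) C
  refine ⟨fun c => if y • c ≠ c ∧ (Quotient.mk R c).out = c then 1 else 0, fun c => ⟨fun h => ?_, fun h => ?_⟩⟩
  · simp [h]
  · have hper : MulAction.period y c = p := by
      rcases (Nat.dvd_prime hp.out).1 (show MulAction.period y c ∣ p from
        MulAction.pow_smul_eq_iff_period_dvd.1 (by rw [hy, one_smul])) with h1 | h1
      · refine absurd ?_ h
        have h2 := MulAction.pow_period_smul y c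
        rwa [h1, pow_one] at h2
      · exact h1
    have hout : (Quotient.mk R c).out ∈ MulAction.orbit (Subgroup.zpowers y) c :=
      MulAction.orbitRel_apply.1 (Quotient.mk_out (s := R) c)
    obtain ⟨⟨g, z, rfl⟩, hg⟩ := hout
    change y ^ z • c = _ at hg
    obtain ⟨i₀, hi₀⟩ : ∃ i₀ : ℕ, z % (p : ℤ) = i₀ :=
      ⟨(z % (p : ℤ)).toNat, (Int.toNat_of_nonneg (Int.emod_nonneg _ (by simp [hp.out.ne_zero]))).symm⟩
    have hi₀p : i₀ < p := by
      have := Int.emod_lt_of_pos z (show (0 : ℤ) < p by exact_mod_cast hp.out.pos); omega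
    have hyi : y ^ i₀ • c = (Quotient.mk R c).out := by
      rw [← hg, ← MulAction.zpow_mod_period_smul z, hper, hi₀, zpow_natCast]
    have hmk : ∀ i : ℕ, Quotient.mk R (y ^ i • c) = Quotient.mk R c := fun i =>
      Quotient.sound (MulAction.orbitRel_apply.2 ⟨⟨y ^ i, Subgroup.npow_mem_zpowers y i⟩, rfl⟩)
    have hmove : ∀ i : ℕ, y • y ^ i • c ≠ y ^ i • c := fun i e => h (by
      rwa [smul_smul, (Commute.self_pow y i).eq, ← smul_smul, smul_left_cancel_iff] at e)
    beta_reduce
    rw [Finset.sum_eq_single i₀]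
    · rw [if_pos ⟨hmove i₀, by rw [hmk, hyi]⟩]
    · intro i hi hne
      rw [if_neg]
      rintro ⟨-, e⟩
      rw [hmk, ← hyi] at e
      have e1 := Finset.mem_range.1 hi
      rcases Nat.lt_or_gt_of_ne hne with hlt | hlt
      · have : y ^ (i₀ - i) • c = c := by
          rw [← smul_left_cancel_iff (y ^ i), smul_smul, ← pow_add, Nat.add_sub_cancel' hlt.le]
          exact e
        have := (MulAction.pow_smul_eq_iff_period_dvd).1 this
        rw [hper] at this
        exact absurd (Nat.le_of_dvd (by omega) this) (by omega)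
      · have : y ^ (i - i₀) • c = c := by
          rw [← smul_left_cancel_iff (y ^ i₀), smul_smul, ← pow_add, Nat.add_sub_cancel' hlt.le]
          exact e.symm
        have := (MulAction.pow_smul_eq_iff_period_dvd).1 this
        rw [hper] at this
        exact absurd (Nat.le_of_dvd (by omega) this) (by omega)
    · exact fun h' => absurd (Finset.mem_range.2 hi₀p) h'

variable {G : Type*} [Group G] [Finite G]

/-- The lifting theorem. -/
theorem exists_equivariant_idempotent (Ad : G →* Module.End k E) (β : E →ₗ[k] E →ₗ[k] k)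
    (hinv : ∀ g v w, β (Ad g v) (Ad g w) = β v w) {x : G} (hx : orderOf x = p)
    (hidx : ¬ p ∣ (Subgroup.zpowers x).index) {D : ℕ} (hD : D ≤ p - 1)
    (hT : (Ad x - 1) ^ D = 0) (π : Module.End k E) (hπ2 : π * π = π)
    (hadj : ∀ v w, β (π v) w = β v (π w))
    (hN : ∀ g ∈ Subgroup.normalizer (Subgroup.zpowers x : Set G), Commute (Ad g) π) :
    ∃ e u : Module.End k E, e * e = e ∧ (∀ g, Commute (Ad g) e) ∧
      (∀ v w, β (e v) w = β v (e w)) ∧ IsUnit u ∧ Commute (Ad x) u ∧ e * u = u * π := by
  classical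
  set P := Subgroup.zpowers x with hP
  haveI := Fintype.ofFinite (G ⧸ P)
  have hxN : x ∈ Subgroup.normalizer (P : Set G) :=
    Subgroup.le_normalizer (Subgroup.mem_zpowers x)
  let φ : G → Module.End k E := fun g => Ad g * π * Ad g⁻¹
  have hφmul : ∀ g h, φ (g * h) = Ad g * φ h * Ad g⁻¹ := fun g h => by
    simp only [φ, mul_inv_rev, map_mul, mul_assoc]
  have hφN : ∀ g ∈ Subgroup.normalizer (P : Set G), φ g = π := fun g hg => by
    show Ad g * π * Ad g⁻¹ = π
    rw [(hN g hg).eq, mul_assoc, ← map_mul, mul_inv_cancel, map_one, mul_one]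
  let φC : G ⧸ P → Module.End k E := fun c => φ c.out
  have hφC : ∀ (g : G) (c : G ⧸ P), φC (g • c) = Ad g * φC c * Ad g⁻¹ := by
    intro g c
    obtain ⟨⟨h, hh⟩, e⟩ := QuotientGroup.mk_out_eq_mul P (g * c.out)
    have e' : (g • c).out = g * c.out * h := by
      rw [← e, ← smul_eq_mul, ← MulAction.Quotient.smul_coe, QuotientGroup.out_eq']
    show φ _ = _
    rw [e', hφmul, hφN h (Subgroup.le_normalizer hh)]
    show φ (g * c.out) = Ad g * φ c.out * Ad g⁻¹
    exact hφmul g _
  have hfix : ∀ c : G ⧸ P, x • c = c → φC c = π := by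
    intro c hc
    refine hφN _ ?_
    have h1 : c.out⁻¹ * x * c.out ∈ P := by
      have := (QuotientGroup.eq (s := P)).1 (show ((c.out : G) : G ⧸ P) = ((x * c.out : G) : G ⧸ P) by
        rw [← smul_eq_mul, ← MulAction.Quotient.smul_coe, QuotientGroup.out_eq', hc])
      rwa [← mul_assoc] at this
    rw [← inv_inv c.out]
    refine Subgroup.inv_mem _ ?_
    rw [Subgroup.mem_normalizer_iff_map_conj_eq]
    refine Subgroup.eq_of_le_of_card_ge ?_ ?_
    · rw [MonoidHom.map_zpowers, Subgroup.zpowers_le]
      simpa [MulAut.conj_apply] using h1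
    · exact (Subgroup.card_map_of_injective (MulAut.conj c.out⁻¹).injective).ge
  set n : ℕ := Nat.card (G ⧸ P) with hn
  have hn0 : (n : k) ≠ 0 := by rw [Ne, CharP.cast_eq_zero_iff k p]; exact hidx
  set τ : Module.End k E := (n : k)⁻¹ • ∑ c : G ⧸ P, φC c with hτ
  have hτG : ∀ g, Commute (Ad g) τ := by
    intro g
    have e : Ad g * τ * Ad g⁻¹ = τ := by
      rw [hτ, mul_smul_comm, smul_mul_assoc, Finset.mul_sum, Finset.sum_mul]
      congr 1
      exact Fintype.sum_equiv (MulAction.toPerm g) _ _ fun c => (hφC g c).symm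
    show Ad g * τ = τ * Ad g
    conv_rhs => rw [← e, mul_assoc _ (Ad g⁻¹), ← map_mul, inv_mul_cancel, map_one, mul_one]
  have hπx : Commute (Ad x) π := hN x hxN
  have hTπ : Commute (Ad x - 1) π := hπx.sub_left (Commute.one_left _)
  have hTτ : Commute (Ad x - 1) τ := (hτG x).sub_left (Commute.one_left _)
  have hxp : x ^ p = 1 := by rw [← hx, pow_orderOf_eq_one]
  obtain ⟨ξ, hξ⟩ := exists_reps (k := k) (p := p) (C := G ⧸ P) (y := x⁻¹)
    (by rw [inv_pow, hxp, inv_one])
  set Ψ : Module.End k E := ∑ c : G ⧸ P, ξ c • φC c with hΨ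
  have hsum : ∑ i ∈ Finset.range p, Ad x ^ i * Ψ * Ad x⁻¹ ^ i =
      ∑ c ∈ Finset.univ.filter (fun c : G ⧸ P => ¬ x • c = c), φC c := by
    have e1 : ∀ i : ℕ, Ad x ^ i * Ψ * Ad x⁻¹ ^ i = ∑ c : G ⧸ P, ξ (x⁻¹ ^ i • c) • φC c := by
      intro i
      rw [hΨ, Finset.mul_sum, Finset.sum_mul]
      refine Fintype.sum_equiv (MulAction.toPerm (x ^ i)) _ _ fun c => ?_
      rw [MulAction.toPerm_apply, inv_pow, inv_smul_smul, hφC, ← map_pow, ← map_pow, inv_pow,
        mul_smul_comm, smul_mul_assoc]
    simp only [e1]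
    rw [Finset.sum_comm, Finset.sum_filter]
    refine Finset.sum_congr rfl fun c _ => ?_
    rw [← Finset.sum_smul]
    by_cases h : x • c = c
    · rw [if_neg (not_not.2 h)]
      have hc : x⁻¹ • c = c := inv_smul_eq_iff.2 h.symm
      have hci : ∀ i : ℕ, x⁻¹ ^ i • c = c := fun i => by
        induction i with
        | zero => simp
        | succ i ih => rw [pow_succ, mul_smul, hc, ih]
      simp only [hci, (hξ c).1 hc, Finset.sum_const_zero, zero_smul]
    · rw [if_pos h, (hξ c).2 (fun hc => h ((inv_smul_eq_iff.1 hc).symm)), one_smul]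
  have hcount : ((Finset.univ.filter (fun c : G ⧸ P => x • c = c)).card : k) = (n : k) := by
    have hPg : IsPGroup p P := IsPGroup.of_card (n := 1) (by
      rw [hP, Nat.card_zpowers, hx, pow_one])
    have hmod := hPg.card_modEq_card_fixedPoints (G ⧸ P)
    rw [(CharP.natCast_eq_natCast k p).2 hmod]
    congr 1
    rw [Nat.card_eq_fintype_card, Fintype.card_of_finset']
    intro c
    simp only [Finset.mem_filter, Finset.mem_univ, true_and, MulAction.mem_fixedPoints]
    constructor
    · rintro h ⟨g, z, rfl⟩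
      show x ^ z • c = c
      exact MulAction.zpow_smul_eq_iff_period_dvd.2 ((Int.natCast_dvd_natCast.2
        ((MulAction.pow_smul_eq_iff_period_dvd (n := 1)).1 (by rw [pow_one]; exact h))).trans
        (one_dvd z))
    · intro h
      exact h ⟨x, Subgroup.mem_zpowers x⟩
  have hd : Lowers (Ad x - 1) (τ - π) := by
    have e : τ - π = (n : k)⁻¹ • ∑ i ∈ Finset.range p, Ad x ^ i * Ψ * Ad x⁻¹ ^ i := by
      rw [hsum, hτ, ← Finset.sum_filter_add_sum_filter_not Finset.univ
        (fun c : G ⧸ P => x • c = c), smul_add,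
        Finset.sum_congr rfl (fun c hc => hfix c (Finset.mem_filter.1 hc).2),
        Finset.sum_const, ← Nat.cast_smul_eq_nsmul k, hcount, smul_smul, inv_mul_cancel₀ hn0,
        one_smul, add_sub_cancel_left]
    rw [e]
    exact (lowers_trace (by rw [← map_mul, mul_inv_cancel, map_one])
      (by rw [← map_mul, inv_mul_cancel, map_one]) (by rw [← map_pow, hxp, map_one]) hD hT Ψ).smul _
  obtain ⟨e, u, he2, hemem, hu, huT, heu⟩ := Lowers.idem_lift hT hTτ hTπ hπ2 hd
  have hτadj : ∀ v w, β (τ v) w = β v (τ w) := by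
    intro v w
    have h1 : ∀ g v w, β (φ g v) w = β v (φ g w) := by
      intro g v w
      have hL : ∀ z, Ad g (Ad g⁻¹ z) = z := fun z => by
        rw [← Module.End.mul_apply, ← map_mul, mul_inv_cancel, map_one, Module.End.one_apply]
      show β (Ad g (π (Ad g⁻¹ v))) w = β v (Ad g (π (Ad g⁻¹ w)))
      conv_lhs => rw [← hL w, hinv, hadj]
      conv_rhs => rw [← hL v, hinv]
    simp only [hτ, LinearMap.smul_apply, LinearMap.sum_apply, map_smul, map_sum, φC, h1]
  refine ⟨e, u, he2, fun g => ?_, ?_, hu, ?_, heu⟩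
  · clear he2 heu
    induction hemem using Algebra.adjoin_induction with
    | mem z hz => rw [Set.mem_singleton_iff.1 hz]; exact hτG g
    | algebraMap r => exact (Algebra.commutes r (Ad g)).symm
    | add y z _ _ hy hz => exact hy.add_right hz
    | mul y z _ _ hy hz => exact hy.mul_right hz
  · suffices ∀ v w, β (e v) w = β v (e w) ∧ Commute τ e from fun v w => (this v w).1
    clear he2 heu
    intro v w
    induction hemem using Algebra.adjoin_induction generalizing v w with
    | mem z hz => rw [Set.mem_singleton_iff.1 hz]; exact ⟨hτadj v w, Commute.refl τ⟩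
    | algebraMap r =>
      exact ⟨by simp [Algebra.algebraMap_eq_smul_one], (Algebra.commutes r τ).symm⟩
    | add y z _ _ hy hz =>
      exact ⟨by simp [(hy v w).1, (hz v w).1], (hy v w).2.add_right (hz v w).2⟩
    | mul y z hy' hz' hy hz =>
      refine ⟨?_, (hy v w).2.mul_right (hz v w).2⟩
      have hcomm : Commute y z := by
        rw [Algebra.adjoin_singleton_eq_range_aeval] at hy' hz'
        obtain ⟨a, rfl⟩ := hy'
        obtain ⟨b, rfl⟩ := hz'
        exact (Commute.all a b).map (aeval τ)
      conv_rhs => rw [hcomm.eq]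
      rw [Module.End.mul_apply, Module.End.mul_apply, (hy _ _).1, (hz _ _).1]
  · have := huT.add_left (Commute.one_left u)
    rwa [sub_add_cancel] at this

end CfsgLib.SmallRep
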