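import Cfsg.Agent.Lib.SmallRep.Triple
import Cfsg.Agent.Lib.SmallRep.Transfer
import Cfsg.Agent.Lib.SmallRep.OrthThree
import Cfsg.Agent.Lib.SmallRep.Reduction
import Cfsg.Agent.Lib.SmallRep.Complex

/-!
# Feit–Thompson: a faithful representation of degree less than `(p - 1) / 2`

If `p` divides the order exactly once and there is a faithful complex representation of degree `f`
with `2 f + 1 < p`, the Sylow `p`-subgroup is normal.
-/

namespace CfsgLib.SmallRep

open Matrix

set_option linter.unusedSectionVars false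
set_option linter.style.haveILetI false

universe u

variable {p : ℕ} [hp : Fact p.Prime]

section adjoint

variable {k : Type*} [Field k] {f : ℕ} {G : Type*} [Group G]

/-- The adjoint action. -/
def adRep (σ : G →* Matrix (Fin f) (Fin f) k) :
    G →* Module.End k (Matrix (Fin f) (Fin f) k) where
  toFun g := (LinearMap.mulRight k (σ g⁻¹)).comp (LinearMap.mulLeft k (σ g))
  map_one' := LinearMap.ext fun B => by simp
  map_mul' g h := LinearMap.ext fun B => by
    simp [_root_.mul_inv_rev, map_mul, mul_assoc]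

theorem adRep_apply (σ : G →* Matrix (Fin f) (Fin f) k) (g : G) (B : Matrix (Fin f) (Fin f) k) :
    adRep σ g B = σ g * B * σ g⁻¹ := rfl

/-- The trace form. -/
def trForm : Matrix (Fin f) (Fin f) k →ₗ[k] Matrix (Fin f) (Fin f) k →ₗ[k] k :=
  LinearMap.mk₂ k (fun B D => (B * D).trace)
    (fun B B' D => by rw [add_mul, trace_add])
    (fun c B D => by rw [smul_mul_assoc, trace_smul])
    (fun B D D' => by rw [mul_add, trace_add])
    (fun c B D => by rw [mul_smul_comm, trace_smul])

theorem trForm_apply (B D : Matrix (Fin f) (Fin f) k) : trForm B D = (B * D).trace := rfl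

theorem adRep_nilpotent [CharP k p] (σ : G →* Matrix (Fin f) (Fin f) k) {x : G}
    (hX : (σ x - 1) ^ f = 0) : (adRep σ x - 1) ^ (2 * f - 1) = 0 := by
  let A : Module.End k (Matrix (Fin f) (Fin f) k) := LinearMap.mulLeft k (σ x - 1)
  let B : Module.End k (Matrix (Fin f) (Fin f) k) := LinearMap.mulRight k (σ x - 1)
  let Z : Module.End k (Matrix (Fin f) (Fin f) k) := LinearMap.mulRight k (σ x⁻¹)
  have h1 : σ x * σ x⁻¹ = 1 := by rw [← map_mul, mul_inv_cancel, map_one]
  have h2 : σ x⁻¹ * σ x = 1 := by rw [← map_mul, inv_mul_cancel, map_one]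
  have hAB : Commute A B := LinearMap.ext fun β => (mul_assoc _ _ _).symm
  have hY : adRep σ x - 1 = (A - B) * Z := by
    refine LinearMap.ext fun β => ?_
    show σ x * β * σ x⁻¹ - β = (σ x - 1) * (β * σ x⁻¹) - β * σ x⁻¹ * (σ x - 1)
    rw [sub_mul, mul_sub, one_mul, mul_one, mul_assoc β, h2, mul_one, mul_assoc]
    abel
  have haai : Commute (σ x) (σ x⁻¹) := h1.trans h2.symm
  have hcomm : Commute (A - B) Z := by
    refine LinearMap.ext fun β => ?_
    show (σ x - 1) * (β * σ x⁻¹) - β * σ x⁻¹ * (σ x - 1) =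
      ((σ x - 1) * β - β * (σ x - 1)) * σ x⁻¹
    rw [sub_mul ((σ x - 1) * β), mul_assoc (σ x - 1), mul_assoc β (σ x⁻¹), mul_assoc β (σ x - 1),
      (haai.sub_left (Commute.one_left _)).eq]
  have hA : A ^ f = 0 := LinearMap.ext fun β => by
    simp only [A, LinearMap.pow_mulLeft, LinearMap.mulLeft_apply, hX, zero_mul,
      LinearMap.zero_apply]
  have hB : B ^ f = 0 := LinearMap.ext fun β => by
    simp only [B, LinearMap.pow_mulRight, LinearMap.mulRight_apply, hX, mul_zero,
      LinearMap.zero_apply]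
  rw [hY, hcomm.mul_pow, sub_eq_add_neg,
    hAB.neg_right.add_pow_eq_zero_of_add_le_succ_of_pow_eq_zero hA
      ((neg_pow B f).trans (by rw [hB, mul_zero]) : (-B) ^ f = 0) (by omega), zero_mul]

end adjoint

theorem unipotent_pow_eq_zero {k : Type*} [Field k] [CharP k p] {f : ℕ}
    {A : Matrix (Fin f) (Fin f) k} (hA : A ^ p = 1) : (A - 1) ^ f = 0 := by
  have h1 : (A - 1) ^ p = 0 := by
    have h : (Polynomial.X - 1 : Polynomial k) ^ p = Polynomial.X ^ p - 1 := by
      rw [sub_pow_char, one_pow]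
    have := congrArg (Polynomial.aeval A) h
    simpa [hA] using this
  have h2 := Matrix.isNilpotent_charpoly_sub_pow_of_isNilpotent ⟨p, h1⟩
  rw [isNilpotent_iff_eq_zero, sub_eq_zero, Fintype.card_fin] at h2
  have h3 := Matrix.aeval_self_charpoly (A - 1)
  rwa [h2, map_pow, Polynomial.aeval_X] at h3

/-- An orthogonal three-dimensional representation from a faithful modular one. -/
theorem exists_orth {G : Type*} [Group G] [Finite G] {x : G} (hx : orderOf x = p)
    (hidx : ¬ p ∣ (Subgroup.zpowers x).index) {k : Type*} [Field k] [CharP k p] {f : ℕ}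
    (σ : G →* Matrix (Fin f) (Fin f) k) (hσx : σ x ≠ 1) (hf : 2 * f < p) :
    ∃ (τ : G →* Matrix (Fin 3) (Fin 3) k) (J : Matrix (Fin 3) (Fin 3) k),
      Jᵀ = J ∧ J.det ≠ 0 ∧ (∀ g, (τ g)ᵀ * J * τ g = J) ∧
        (τ x - 1) ^ 2 ≠ 0 ∧ (τ x - 1) ^ 3 = 0 := by
  classical
  set P := Subgroup.zpowers x with hP
  have hf1 : f ≠ 0 := fun h => by subst h; exact hσx (Matrix.ext fun i => i.elim0)
  have hxp : x ^ p = 1 := by rw [← hx, pow_orderOf_eq_one]
  set N := Subgroup.normalizer (P : Set G) with hN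
  have hPN : P ≤ N := Subgroup.le_normalizer
  have hcP : Nat.card (P.subgroupOf N) = p := by
    rw [Nat.card_congr (Subgroup.subgroupOfEquivOfLe hPN).toEquiv, hP, Nat.card_zpowers, hx]
  have hrel : ¬ p ∣ (P.subgroupOf N).index := fun h =>
    hidx (h.trans (Subgroup.relIndex_dvd_index_of_le hPN))
  haveI : (P.subgroupOf N).Normal := Subgroup.normal_in_normalizer
  obtain ⟨Q, hQ⟩ := Subgroup.exists_right_complement'_of_coprime (N := P.subgroupOf N)
    (by rw [hcP]; exact hp.out.coprime_iff_not_dvd.2 hrel)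
  have hQcard : ¬ p ∣ Nat.card Q := by rwa [← hQ.symm.index_eq_card]
  have hwex : ∀ q : Q, ∃ w : ℕ, ((q : N) : G) * x * ((q : N) : G)⁻¹ = x ^ w := fun q => by
    have h1 : ((q : N) : G) * x * ((q : N) : G)⁻¹ ∈ P :=
      (Subgroup.mem_normalizer_iff.1 (q : N).2 x).1 (Subgroup.mem_zpowers x)
    obtain ⟨w, hw⟩ := mem_powers_iff_mem_zpowers.2 h1
    exact ⟨w, hw.symm⟩
  choose w hw using hwex
  set A := σ x with hA
  have hAp : A ^ p = 1 := by rw [hA, ← map_pow, hxp, map_one]
  have hXf := unipotent_pow_eq_zero hAp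
  let ρQ : Q →* (Matrix (Fin f) (Fin f) k)ˣ :=
    σ.toHomUnits.comp (N.subtype.comp Q.subtype)
  obtain ⟨S⟩ := exists_summand (X := A - 1) (sub_ne_zero.2 hσx) hXf hf hQcard ρQ w (fun q => by
    rw [add_sub_cancel]
    have h1 := congrArg σ (hw q)
    rw [map_mul, map_mul, map_pow] at h1
    rw [show ((ρQ q)⁻¹).val = σ ((q : N) : G)⁻¹ by rw [← map_inv]; rfl]
    exact h1)
  obtain ⟨π, a, b, c, fa, fb, fc, hrange, hadj, hind, aA, aB, aC, hApi, hcomm⟩ := S
  rw [add_sub_cancel] at aA aB aC hApi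
  let Ad := adRep σ
  have hinvσ : ∀ g, σ g * σ g⁻¹ = 1 := fun g => by rw [← map_mul, mul_inv_cancel, map_one]
  have hinvσ' : ∀ g, σ g⁻¹ * σ g = 1 := fun g => by rw [← map_mul, inv_mul_cancel, map_one]
  have hinvβ : ∀ g B D, trForm (Ad g B) (Ad g D) = trForm B D := fun g B D => by
    rw [trForm_apply, trForm_apply, adRep_apply, adRep_apply,
      show σ g * B * σ g⁻¹ * (σ g * D * σ g⁻¹) = σ g * (B * (σ g⁻¹ * σ g) * D) * σ g⁻¹ by
        simp only [mul_assoc], hinvσ', mul_one, Matrix.trace_mul_comm, ← mul_assoc, hinvσ', one_mul]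
  let π' : Module.End k (Matrix (Fin f) (Fin f) k) := π
  have hπN : ∀ g ∈ N, Commute (Ad g) π' := by
    intro g hg
    have hx' : Commute (Ad x) π' := LinearMap.ext fun B => by
      show σ x * π B * σ x⁻¹ = π (σ x * B * σ x⁻¹)
      have h := hApi B (σ x * B * σ x⁻¹) (by rw [mul_assoc _ (σ x⁻¹), hinvσ', mul_one])
      rw [← hA] at *
      rw [h, mul_assoc, hA, hinvσ, mul_one]
    obtain ⟨⟨u, q⟩, huq⟩ := hQ.2 ⟨g, hg⟩
    have e : g = ((u : N) : G) * ((q : N) : G) := (congrArg Subtype.val huq).symm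
    rw [e, map_mul]
    refine Commute.mul_left ?_ ?_
    · obtain ⟨s, hs⟩ := mem_powers_iff_mem_zpowers.2 (Subgroup.mem_subgroupOf.1 u.2)
      rw [← hs, map_pow]
      exact hx'.pow_left s
    · refine LinearMap.ext fun B => ?_
      show σ ((q : N) : G) * π B * σ ((q : N) : G)⁻¹ =
        π (σ ((q : N) : G) * B * σ ((q : N) : G)⁻¹)
      have h := hcomm (ρQ q) ⟨q, rfl⟩ B
      have e2 : ((ρQ q)⁻¹).val = σ ((q : N) : G)⁻¹ := by rw [← map_inv]; rfl
      rw [e2] at h
      exact h.symm
  have hπ2 : π' * π' = π' := LinearMap.ext fun B => by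
    show π (π B) = π B
    refine Submodule.span_induction ?_ ?_ ?_ ?_ (hrange B)
    · rintro v (rfl | rfl | rfl) <;> assumption
    · exact map_zero π
    · intro v v' _ _ h h'; rw [map_add, h, h']
    · intro r v _ h; rw [map_smul, h]
  obtain ⟨e, u, he2, hecomm, hesym, hu, huT, heu⟩ := exists_equivariant_idempotent Ad trForm hinvβ
    hx hidx (D := 2 * f - 1) (by omega) (adRep_nilpotent (p := p) σ hXf) π' hπ2
    (fun B D => hadj B D) hπN
  obtain ⟨U, rfl⟩ := hu
  let v : Fin 3 → Matrix (Fin f) (Fin f) k := fun i => U.val (![a, b, c] i)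
  have hUinj : Function.Injective U.val := fun B D h => by
    have := congrArg (U⁻¹).val h
    rwa [← Module.End.mul_apply, ← Module.End.mul_apply, Units.inv_mul] at this
  have hv : LinearIndependent k v := hind.map' U.val (LinearMap.ker_eq_bot.2 hUinj)
  have hev : ∀ i, e (v i) = v i := fun i => by
    show e (U.val _) = U.val _
    rw [← Module.End.mul_apply, heu, Module.End.mul_apply]
    congr 1
    fin_cases i <;> assumption
  have hespan : ∀ B, e B ∈ Submodule.span k (Set.range v) := by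
    intro B
    have e1 : e B = U.val (π ((U⁻¹).val B)) := by
      show _ = U.val (π' _)
      rw [← Module.End.mul_apply, ← heu, Module.End.mul_apply, ← Module.End.mul_apply (f := U.val),
        Units.mul_inv, Module.End.one_apply]
    rw [e1]
    refine Submodule.span_induction ?_ ?_ ?_ ?_ (hrange ((U⁻¹).val B))
    · rintro z (rfl | rfl | rfl)
      · exact Submodule.subset_span ⟨0, rfl⟩
      · exact Submodule.subset_span ⟨1, rfl⟩
      · exact Submodule.subset_span ⟨2, rfl⟩
    · rw [map_zero]; exact Submodule.zero_mem _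
    · intro z z' _ _ h h'; rw [map_add]; exact Submodule.add_mem _ h h'
    · intro r z _ h; rw [map_smul]; exact Submodule.smul_mem _ _ h
  have hex : ∀ g j, ∃ m : Fin 3 → k, ∑ i, m i • v i = Ad g (v j) := fun g j => by
    refine (Submodule.mem_span_range_iff_exists_fun k).1 ?_
    rw [← hev j, ← Module.End.mul_apply, (hecomm g).eq, Module.End.mul_apply]
    exact hespan _
  choose m hm using hex
  let M : G → Matrix (Fin 3) (Fin 3) k := fun g => Matrix.of fun i j => m g j i
  have huniq : ∀ (g : G) (T : Matrix (Fin 3) (Fin 3) k),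
      (∀ j, Ad g (v j) = ∑ i, T i j • v i) → M g = T := by
    intro g T hT
    ext i j
    exact hv.eq_coords_of_eq (f := m g j) (g := fun i => T i j) ((hm g j).trans (hT j)) i
  let τ : G →* Matrix (Fin 3) (Fin 3) k :=
    { toFun := M
      map_one' := huniq 1 1 fun j => by
        simp [Matrix.one_apply]
      map_mul' := fun g h => huniq (g * h) (M g * M h) fun j => by
        rw [map_mul, Module.End.mul_apply, ← hm h j, map_sum]
        simp only [map_smul, ← hm g, Finset.smul_sum, smul_smul, Matrix.mul_apply, Finset.sum_smul]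
        rw [Finset.sum_comm]
        refine Finset.sum_congr rfl fun i _ => Finset.sum_congr rfl fun l _ => ?_
        rw [mul_comm]
        rfl }
  let J : Matrix (Fin 3) (Fin 3) k := Matrix.of fun i j => trForm (v i) (v j)
  refine ⟨τ, J, ?_, ?_, fun g => ?_, ?_⟩
  · ext i j
    show (v j * v i).trace = (v i * v j).trace
    exact Matrix.trace_mul_comm _ _
  · intro h0
    obtain ⟨z, hz, hz0⟩ := Matrix.exists_mulVec_eq_zero_iff.2 h0
    set V := ∑ j, z j • v j with hV
    have h1 : ∀ i, trForm (v i) V = 0 := fun i => by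
      have := congrFun hz0 i
      simp only [Matrix.mulVec, dotProduct, Pi.zero_apply, J, Matrix.of_apply] at this
      rw [hV, map_sum]
      simp only [map_smul, smul_eq_mul]
      rw [← this]
      exact Finset.sum_congr rfl fun j _ => mul_comm _ _
    have h2 : ∀ B, trForm B V = 0 := fun B => by
      have hVe : e V = V := by rw [hV, map_sum]; simp only [map_smul, hev]
      rw [← hVe, ← hesym]
      refine Submodule.span_induction (p := fun z _ => trForm z V = 0) ?_ ?_ ?_ ?_ (hespan B)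
      · rintro _ ⟨i, rfl⟩; exact h1 i
      · simp
      · intro z z' _ _ h h'; rw [map_add, LinearMap.add_apply, h, h', add_zero]
      · intro r z _ h; rw [map_smul, LinearMap.smul_apply, h, smul_zero]
    have h3 : V = 0 := Matrix.ext_iff_trace_mul_left.2 fun B => by
      rw [mul_zero, trace_zero]; exact h2 B
    exact hz (funext fun j => Fintype.linearIndependent_iff.1 hv z (hV ▸ h3) j)
  · ext i j
    have h1 := hinvβ g (v i) (v j)
    rw [← hm g i, ← hm g j] at h1
    simp only [map_sum, map_smul, LinearMap.coe_sum, Finset.sum_apply, LinearMap.smul_apply,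
      smul_eq_mul, Finset.mul_sum] at h1
    show _ = trForm (v i) (v j)
    rw [← h1]
    simp only [Matrix.mul_apply, Matrix.transpose_apply, Finset.sum_mul]
    refine Finset.sum_congr rfl fun l _ => Finset.sum_congr rfl fun l' _ => ?_
    show m g i l' * trForm (v l') (v l) * m g j l = _
    ring
  · have hU : ∀ B, Ad x (U.val B) = U.val (Ad x B) := fun B => by
      rw [← Module.End.mul_apply, huT.eq, Module.End.mul_apply]
    have ha : Ad x a = a := by
      rw [adRep_apply, ← hA, aA, mul_assoc, hA, hinvσ, mul_one]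
    have hb : Ad x b = b - (2 : k) • a := by
      rw [adRep_apply, ← hA, aB, mul_assoc, hA, hinvσ, mul_one]
    have hc : Ad x c = c + b - a := by
      rw [adRep_apply, ← hA, aC, mul_assoc, hA, hinvσ, mul_one]
    have hτx : τ x = !![1, -2, -1; 0, 1, 1; 0, 0, 1] := by
      refine huniq x _ fun j => ?_
      show Ad x (U.val _) = _
      rw [hU]
      fin_cases j <;>
        simp [Fin.sum_univ_three, v, ha, hb, hc, map_sub, map_add, map_smul] <;> abel
    have hd : τ x - 1 = !![0, -2, -1; 0, 0, 1; 0, 0, 0] := by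
      rw [hτx]
      ext i j
      fin_cases i <;> fin_cases j <;> simp
    rw [hd]
    refine ⟨fun h => ?_, ?_⟩
    · have := congrFun (congrFun h 0) 2
      simp [sq, Matrix.mul_apply, Fin.sum_univ_three] at this
      exact natCast_ne_zero_of_lt (k := k) (p := p) (i := 2) (by omega) (by omega)
        (by simpa using this)
    · ext i j
      fin_cases i <;> fin_cases j <;> simp [pow_succ, Matrix.mul_apply, Fin.sum_univ_three]

/-- Either the Sylow subgroup is normal, or there is a three-dimensional orthogonal representation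
with a non-commuting pair of regular unipotents. -/
theorem normal_or_orth {f : ℕ} (hf : 2 * f < p) (G : Type u) [Group G] [Finite G] (x : G)
    (hx : orderOf x = p) (hsq : ¬ p ^ 2 ∣ Nat.card G) (R : Representation ℂ G (Fin f → ℂ))
    (hR : Function.Injective R) :
    (Subgroup.zpowers x).Normal ∨
      ∃ (k : Type) (_ : Field k) (_ : IsAlgClosed k) (_ : CharP k p)
        (τ : G →* Matrix (Fin 3) (Fin 3) k) (J : Matrix (Fin 3) (Fin 3) k),
        Jᵀ = J ∧ J.det ≠ 0 ∧ (∀ g, (τ g)ᵀ * J * τ g = J) ∧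
          (τ x - 1) ^ 2 ≠ 0 ∧ (τ x - 1) ^ 3 = 0 ∧
            ∃ g₀, τ x * τ (g₀ * x * g₀⁻¹) ≠ τ (g₀ * x * g₀⁻¹) * τ x := by
  rw [or_iff_not_imp_left]
  intro hnn
  classical
  set P := Subgroup.zpowers x with hP
  have hPc : Nat.card P = p := by rw [hP, Nat.card_zpowers, hx]
  have hPg : IsPGroup p P := IsPGroup.of_card (n := 1) (by rw [hPc, pow_one])
  have hidx : ¬ p ∣ P.index := fun h => hsq (by
    rw [← P.card_mul_index, hPc, sq]; exact Nat.mul_dvd_mul_left p h)
  have hxp : x ^ p = 1 := by rw [← hx, pow_orderOf_eq_one]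
  have hf0 : f ≠ 0 := fun h => by
    subst h
    have h1 : R x = 1 := LinearMap.ext fun v => Subsingleton.elim _ _
    rw [hR (h1.trans (map_one R).symm), orderOf_one] at hx
    exact hp.out.one_lt.ne hx
  -- the modular representation
  let ρ : G →* Matrix (Fin f) (Fin f) ℂ := LinearMap.toMatrixAlgEquiv'.toMonoidHom.comp R
  obtain ⟨k, hk, hkc, σ, hσker⟩ := exists_reduction hp.out ρ
    (LinearMap.toMatrixAlgEquiv'.injective.comp hR)
  have hσx : σ x ≠ 1 := by
    intro h1
    apply hnn
    set L := σ.ker with hL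
    have hLg : IsPGroup p L := fun g => by
      obtain ⟨n, hn⟩ := hσker g (MonoidHom.mem_ker.1 g.2)
      exact ⟨n, Subtype.ext hn⟩
    obtain ⟨l, hl⟩ := IsPGroup.iff_card.1 hLg
    have hPL : P ≤ L := by rw [hP, Subgroup.zpowers_le]; exact MonoidHom.mem_ker.2 h1
    have : P = L := Subgroup.eq_of_le_of_card_ge hPL (by
      rw [hPc, hl]
      rcases Nat.lt_or_ge l 2 with hl2 | hl2
      · exact le_trans (Nat.pow_le_pow_right hp.out.pos (show l ≤ 1 by omega)) (pow_one p).le
      · exact absurd ((pow_dvd_pow p hl2).trans (hl ▸ Subgroup.card_subgroup_dvd_card _)) hsq)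
    rw [this]
    infer_instance
  let ι : k →+* AlgebraicClosure k := algebraMap k (AlgebraicClosure k)
  haveI : CharP (AlgebraicClosure k) p := charP_of_injective_ringHom ι.injective p
  let σ' : G →* Matrix (Fin f) (Fin f) (AlgebraicClosure k) := ι.mapMatrix.toMonoidHom.comp σ
  have hσx' : σ' x ≠ 1 := fun h1 => hσx (Matrix.map_injective ι.injective
    (h1.trans (map_one ι.mapMatrix).symm))
  obtain ⟨τ, J, hJs, hJ, hτ, h2, h3⟩ := exists_orth hx hidx σ' hσx' hf
  by_cases hne : ∃ g₀, τ x * τ (g₀ * x * g₀⁻¹) ≠ τ (g₀ * x * g₀⁻¹) * τ x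
  · exact ⟨AlgebraicClosure k, inferInstance, inferInstance, inferInstance, τ, J, hJs, hJ, hτ, h2,
      h3, hne⟩
  exfalso
  push Not at hne
  set ψ := τ.toHomUnits with hψ
  have hψx : ψ x ≠ 1 := fun h => h2 (by
    rw [show τ x = 1 from congrArg Units.val h, sub_self, zero_pow two_ne_zero])
  have hmem : ∀ g, ψ (g * x * g⁻¹) ∈ Subgroup.zpowers (ψ x) := by
    intro g
    set C := (Subgroup.centralizer {ψ x}).comap ψ with hC
    have hxC : x ∈ C := by
      rw [hC, Subgroup.mem_comap, Subgroup.mem_centralizer_singleton_iff]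
    have hyC : g * x * g⁻¹ ∈ C := by
      rw [hC, Subgroup.mem_comap, Subgroup.mem_centralizer_singleton_iff]
      exact Units.ext (hne g).symm
    have hcard : ∀ S : Subgroup G, Nat.card S = p → ∃ T : Sylow p G, (T : Subgroup G) = S := by
      intro S hS
      obtain ⟨T, hT⟩ := (IsPGroup.of_card (n := 1) (by rw [hS, pow_one]) :
        IsPGroup p S).exists_le_sylow
      refine ⟨T, (Subgroup.eq_of_le_of_card_ge hT ?_).symm⟩
      obtain ⟨l, hl⟩ := IsPGroup.iff_card.1 T.isPGroup'
      rw [hS, hl]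
      rcases Nat.lt_or_ge l 2 with hl2 | hl2
      · exact le_trans (Nat.pow_le_pow_right hp.out.pos (show l ≤ 1 by omega)) (pow_one p).le
      · exact absurd ((pow_dvd_pow p hl2).trans (hl ▸ Subgroup.card_subgroup_dvd_card _)) hsq
    obtain ⟨T, hT⟩ := hcard P hPc
    obtain ⟨T', hT'⟩ := hcard (Subgroup.zpowers (g * x * g⁻¹)) (by
      rw [Nat.card_zpowers, ← hx]
      exact orderOf_injective (MulAut.conj g).toMonoidHom (MulAut.conj g).injective x)
    have hTC : (T : Subgroup G) ≤ C := by rw [hT, hP, Subgroup.zpowers_le]; exact hxC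
    have hTC' : (T' : Subgroup G) ≤ C := by rw [hT', Subgroup.zpowers_le]; exact hyC
    obtain ⟨t, ht⟩ := MulAction.exists_smul_eq C (T'.subtype hTC') (T.subtype hTC)
    have hmem' : t * ⟨g * x * g⁻¹, hyC⟩ * t⁻¹ ∈ ((T.subtype hTC : Sylow p C) : Subgroup C) := by
      rw [← ht, Sylow.coe_subgroup_smul]
      refine ⟨⟨g * x * g⁻¹, hyC⟩, ?_, rfl⟩
      show g * x * g⁻¹ ∈ (T' : Subgroup G)
      rw [hT']; exact Subgroup.mem_zpowers _
    have hmem'' : (t : G) * (g * x * g⁻¹) * (t : G)⁻¹ ∈ P := by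
      have h6 : (t : G) * (g * x * g⁻¹) * (t : G)⁻¹ ∈ (T : Subgroup G) := hmem'
      rwa [hT] at h6
    obtain ⟨i, hi⟩ := mem_powers_iff_mem_zpowers.2 hmem''
    have ht' : ψ (t : G) ∈ Subgroup.centralizer {ψ x} := t.2
    rw [Subgroup.mem_centralizer_singleton_iff] at ht'
    have h4 := congrArg ψ hi
    simp only [map_pow, map_mul, map_inv] at h4
    have h5 : ψ (g * x * g⁻¹) = ψ x ^ i := by
      rw [map_mul, map_mul, map_inv]
      have e : (ψ (t : G))⁻¹ * ψ x ^ i * ψ (t : G) = ψ x ^ i := by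
        rw [mul_assoc, ← ((show Commute (ψ (t : G)) (ψ x) from ht').pow_right i).eq,
          inv_mul_cancel_left]
      rw [← e, h4]
      group
    rw [h5]
    exact Subgroup.npow_mem_zpowers _ _
  set K := ψ.ker with hK
  have hKp : ¬ p ∣ Nat.card K := by
    intro h
    have h1 := K.card_mul_index
    rw [hK, Subgroup.index_ker] at h1
    have h2' : p ∣ Nat.card ψ.range := by
      have := Subgroup.orderOf_dvd_natCard ψ.range (MonoidHom.mem_range.2 ⟨x, rfl⟩)
      rwa [orderOf_eq_prime (by rw [← map_pow, hxp, map_one]) hψx] at this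
    exact hsq (h1 ▸ (sq p).symm ▸ Nat.mul_dvd_mul h h2')
  have hcomm := commute_of_small hR hxp (by omega) _ K rfl hKp
    (fun z hz => (inferInstance : ψ.ker.Normal).conj_mem z hz x)
  apply hnn
  refine ⟨fun z hz g => ?_⟩
  obtain ⟨s, rfl⟩ := Subgroup.mem_zpowers_iff.1 hz
  rw [← conj_zpow]
  refine Subgroup.zpow_mem _ ?_ s
  obtain ⟨i, hi⟩ := Subgroup.mem_zpowers_iff.1 (hmem g)
  set w := (x ^ i)⁻¹ * (g * x * g⁻¹) with hw
  have hwK : w ∈ K := MonoidHom.mem_ker.2 (by
    rw [hw, map_mul ψ, map_inv, map_zpow, hi, inv_mul_cancel])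
  have hwx : Commute x w := hcomm w hwK
  have e : g * x * g⁻¹ = x ^ i * w := by rw [hw, mul_inv_cancel_left]
  have hwp : w ^ p = 1 := by
    have h1 : (g * x * g⁻¹) ^ p = 1 := by rw [conj_pow, hxp, mul_one, mul_inv_cancel]
    rw [e, (hwx.zpow_left i).mul_pow, ← zpow_natCast (x ^ i), ← _root_.zpow_mul, mul_comm, _root_.zpow_mul,
      zpow_natCast, hxp, _root_.one_zpow, one_mul] at h1
    exact h1
  have hw1 : w = 1 := by
    rw [← orderOf_eq_one_iff]
    rcases (Nat.dvd_prime hp.out).1 (orderOf_dvd_of_pow_eq_one hwp) with h | h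
    · exact h
    · exact absurd (h ▸ Subgroup.orderOf_dvd_natCard K hwK) hKp
  rw [e, hw1, mul_one]
  exact Subgroup.zpow_mem _ (Subgroup.mem_zpowers x) i

/-- Feit–Thompson: the bound `(p - 1) / 2`. -/
theorem normal_of_small_degree {f : ℕ} (hf : 2 * f + 1 < p) :
    ∀ (G : Type u) [Group G] [Finite G] (x : G), orderOf x = p →
      ¬ p ^ 2 ∣ Nat.card G → ∀ R : Representation ℂ G (Fin f → ℂ), Function.Injective R →
      (Subgroup.zpowers x).Normal := by
  intro G _ _ x hx hsq R hR
  have hp2 : p ≠ 2 := by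
    rintro rfl
    have hf0 : f = 0 := by omega
    subst hf0
    have h1 : R x = 1 := LinearMap.ext fun v => Subsingleton.elim _ _
    rw [hR (h1.trans (map_one R).symm), orderOf_one] at hx
    omega
  rcases normal_or_orth (by omega) G x hx hsq R hR with h |
    ⟨k, hk, hka, hkc, τ, J, hJs, hJ, hτ, h2, h3, g₀, hg₀⟩
  · exact h
  obtain ⟨n, j, hn, hj⟩ := exists_square_exponent hp2 hx hsq τ J hJs hJ hτ h2 h3 hg₀
  have hRx : R x ≠ 1 := fun h1 => by
    rw [hR (h1.trans (map_one R).symm), orderOf_one] at hx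
    exact hp.out.one_lt.ne hx
  have := orderOf_exponent_le hRx hx hn
  obtain ⟨l, hl⟩ := hp.out.odd_of_ne_two hp2
  omega

end CfsgLib.SmallRep
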