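import Cfsg.Agent.Lib.Dickson.Main

/-!
# Subgroups of `SL₂` with a large unipotent part have the Borel subgroup of minimal index

If the unipotent part has at least five elements, the class equation leaves only the index
`card (param G) + 1`.
-/

namespace CfsgLib.SmallRep

open Matrix CfsgLib.Dickson

set_option linter.unusedSectionVars false

variable {K : Type*} [Field K] {G : Subgroup (Matrix.SpecialLinearGroup (Fin 2) K)} [Finite G]
  (p : ℕ) [Fact p.Prime] [CharP K p]

set_option maxHeartbeats 800000 in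
/-- The Borel subgroup has index `card (param G) + 1`. -/
theorem index_eq_succ (hp : p ≠ 2) (hneg : -1 ∈ G) {b c : K} (hb : b ≠ 0) (hbG : up b ∈ G)
    (hc : c ≠ 0) (hcG : lo c ∈ G) (hq5 : 5 ≤ Nat.card (param G)) :
    (nG G).index = Nat.card (param G) + 1 ∧ ∃ t : K, t ≠ 0 ∧ up t ∈ G ∧ lo t⁻¹ ∈ G := by
  classical
  obtain ⟨k, hk, hn, hk1⟩ := index_shape p hb hbG hc hcG
  obtain ⟨hq3, hD2, hDle⟩ := torus_bounds p hp hneg hb hbG
  have hG := card_eq (G := G)
  have hS := card_ss p hp hneg hb hbG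
  set n := (nG G).index with hn'
  set q := Nat.card (param G) with hq
  set D := Nat.card (diagHom G).range with hD
  set Gc := Nat.card G with hGc
  by_cases hk' : k = 1
  · exact ⟨by rw [hn, hk', mul_one], hk1 hk'⟩
  exfalso
  have hDpos : 0 < D := Nat.card_pos
  clear_value D n q Gc
  obtain ⟨d, rfl⟩ : ∃ d, D = 2 * d := hD2
  obtain ⟨q', hq'⟩ : ∃ q', q = q' + 1 := ⟨q - 1, by omega⟩
  rw [hq', Nat.add_sub_cancel] at hS hDle
  have hn2 : 2 * q + 1 ≤ n := by
    rw [hn]
    have : 2 ≤ k := by omega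
    calc 2 * q + 1 ≤ q * k + 1 := by nlinarith
      _ ≤ _ := le_rfl
  set SS : Set G := {g : G | tr G g ^ 2 ≠ 4} with hSS
  have hsub : ∀ g : G, cls G g ⊆ SS := fun g x hx => hx.1
  rcases Nat.lt_or_ge d 2 with hd | hd
  · -- the torus is trivial
    exfalso
    obtain rfl : d = 1 := by omega
    have hS' : SS.ncard + 2 = 2 * n := by nlinarith
    obtain ⟨g, hg⟩ : SS.Nonempty := Set.nonempty_of_ncard_ne_zero (by omega)
    obtain ⟨hb4, hbd⟩ := cls_bound p hp hneg hg
    rw [← hGc] at hb4 hbd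
    obtain ⟨hcev, hc4, -⟩ := card_cen p hp hneg hg
    have hle : (cls G g).ncard ≤ SS.ncard := Set.ncard_le_ncard (hsub g)
    obtain rfl : q' = 2 := by
      by_contra hne
      have h3 : 3 ≤ q' := by omega
      nlinarith
    have hGn : Gc = 6 * n := by rw [hG, hq']; ring
    by_cases heq : SS ⊆ cls G g
    · have he : (cls G g).ncard = SS.ncard := le_antisymm hle (Set.ncard_le_ncard heq)
      set c₀ := Nat.card (cen G g) with hc₀
      obtain ⟨j, hj⟩ : ∃ j, c₀ = j + 2 := ⟨c₀ - 2, by omega⟩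
      rcases hbd with ⟨h1, -⟩ | h1
      · rw [he, hGn, hj, Nat.add_sub_cancel] at h1
        nlinarith
      · rw [he, hGn, hj, Nat.add_sub_cancel] at h1
        obtain ⟨i, hi⟩ := hcev
        rw [hj] at hi
        rcases Nat.lt_or_ge j 4 with hj4 | hj4
        · interval_cases j <;> omega
        · nlinarith
    · obtain ⟨g', hg', hg'n⟩ := Set.not_subset.1 heq
      have hu := Set.ncard_le_ncard (Set.union_subset (hsub g) (hsub g')) (t := SS)
      rw [Set.ncard_union_eq (cls_disjoint hg hg' hg'n)] at hu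
      have := (cls_bound p hp hneg hg').1
      rw [← hGc] at this
      omega
  -- a non-trivial torus
  obtain ⟨g₀, hg₀, hc₀⟩ := exists_torus p hp (G := G) (by omega)
  obtain ⟨-, hbd₀⟩ := cls_bound p hp hneg hg₀
  rw [← hD] at hc₀
  rw [hc₀, ← hGc] at hbd₀
  obtain ⟨d', hd'⟩ : ∃ d', d = d' + 2 := ⟨d - 2, by omega⟩
  have hD2' : 2 * d - 2 = 2 * (d' + 1) := by omega
  rw [hD2'] at hbd₀
  have hnpos : 0 < n := by omega
  have hqpos : 0 < q := by omega
  -- the class of the torus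
  have hrest : (SS \ cls G g₀).ncard + (cls G g₀).ncard = SS.ncard :=
    Set.ncard_sdiff_add_ncard_of_subset (hsub g₀)
  have hout : ∀ g ∈ SS \ cls G g₀, cls G g ⊆ SS \ cls G g₀ := fun g hg x hx =>
    ⟨hx.1, fun hx0 => Set.disjoint_left.1 (cls_disjoint hg₀ hg.1 hg.2) hx0 hx⟩
  rcases hbd₀ with ⟨h₀, -⟩ | h₀
  · exfalso
    have hcl : (cls G g₀).ncard = 2 * n * q * (d' + 1) := by
      refine Nat.eq_of_mul_eq_mul_right (show 0 < 2 * d by omega) ?_
      rw [h₀, hG]; ring
    have hrest' : (SS \ cls G g₀).ncard + 2 = 2 * n := by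
      rw [hcl, hq'] at hrest
      rw [hG, hq', hd'] at hS
      nlinarith
    obtain ⟨g, hg⟩ : (SS \ cls G g₀).Nonempty := Set.nonempty_of_ncard_ne_zero (by omega)
    have h1 := (cls_bound p hp hneg hg.1).1
    have h2 := Set.ncard_le_ncard (hout g hg)
    rw [← hGc, hG] at h1
    nlinarith [Nat.mul_le_mul hq3 hd]
  have hcl : (cls G g₀).ncard = n * q * (d' + 1) := by
    refine Nat.eq_of_mul_eq_mul_right (show 0 < 2 * (2 * d) by omega) ?_
    rw [h₀, hG]; ring
  have hrest' : (SS \ cls G g₀).ncard + n * q + 2 = n * q * d' + 2 * (n * q) + 2 * n := by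
    rw [hcl, hq'] at hrest
    rw [hG, hq', hd'] at hS
    rw [hq']
    nlinarith
  have hGv : Gc = 2 * (n * q * (d' + 2)) := by rw [hG, hd']; ring
  have hexp : n * q * (d' + 2) = n * q * d' + 2 * (n * q) := by ring
  have hA : 3 * n ≤ n * q := by rw [mul_comm 3 n]; exact Nat.mul_le_mul_left n hq3
  obtain ⟨g₁, hg₁⟩ : (SS \ cls G g₀).Nonempty := Set.nonempty_of_ncard_ne_zero (fun h0 => by
    rw [h0] at hrest'
    linarith)
  have hsingle : SS \ cls G g₀ ⊆ cls G g₁ := by
    by_contra hne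
    obtain ⟨g', hg', hg'n⟩ := Set.not_subset.1 hne
    have hu := Set.ncard_le_ncard (Set.union_subset (hout g₁ hg₁) (hout g' hg'))
    rw [Set.ncard_union_eq (cls_disjoint hg₁.1 hg'.1 hg'n)] at hu
    have h1 := (cls_bound p hp hneg hg₁.1).1
    have h2 := (cls_bound p hp hneg hg'.1).1
    rw [← hGc, hGv, hexp] at h1 h2
    linarith
  have heq : (cls G g₁).ncard = (SS \ cls G g₀).ncard :=
    le_antisymm (Set.ncard_le_ncard (hout g₁ hg₁)) (Set.ncard_le_ncard hsingle)
  obtain ⟨-, hbd₁⟩ := cls_bound p hp hneg hg₁.1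
  obtain ⟨hcev, hc4, -⟩ := card_cen p hp hneg hg₁.1
  rw [← hGc, hGv] at hbd₁
  rcases hbd₁ with ⟨-, h1⟩ | h1
  · exfalso
    rw [heq, hexp] at h1
    linarith
  obtain ⟨e, he⟩ := hcev
  rw [he, show 2 * e - 2 = 2 * (e - 1) by omega, heq] at h1
  obtain ⟨e', he'⟩ : ∃ e', e = e' + 1 := ⟨e - 1, by omega⟩
  rw [he', Nat.add_sub_cancel] at h1
  -- the fundamental equation
  have heqn : (e' + 1) * (n * q' + 2) = n * q * (d' + 2) + (e' + 1) * n := by
    rw [hq'] at hrest' h1 ⊢
    have h2 := congrArg (fun x => x * (e' + 1)) hrest'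
    simp only [add_mul] at h2
    ring_nf at h1 h2 ⊢
    linarith
  obtain ⟨q'', hq''⟩ : ∃ q'', q' = q'' + 1 := ⟨q' - 1, by omega⟩
  have heqn' : (e' + 1) * (n * q'' + 2) = n * q * (d' + 2) := by
    rw [hq''] at heqn
    ring_nf at heqn ⊢
    linarith
  have hdvd : n ∣ 2 * (e' + 1) := by
    have h1' : n ∣ (e' + 1) * (n * q'' + 2) := heqn' ▸ dvd_mul_of_dvd_left (dvd_mul_right n q) _
    rw [show (e' + 1) * (n * q'' + 2) = n * ((e' + 1) * q'') + 2 * (e' + 1) by ring] at h1'
    exact (Nat.dvd_add_right (dvd_mul_right _ _)).1 h1'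
  obtain ⟨j, hj⟩ := hdvd
  have hj2 : j * (n * q'' + 2) = 2 * q * (d' + 2) := by
    refine Nat.eq_of_mul_eq_mul_left hnpos ?_
    calc n * (j * (n * q'' + 2)) = 2 * ((e' + 1) * (n * q'' + 2)) := by rw [← mul_assoc, ← hj]; ring
      _ = _ := by rw [heqn']; ring
  have hj3 : j * (k * q'' + 1) = 2 * (d' + 2) := by
    refine Nat.eq_of_mul_eq_mul_left hqpos ?_
    calc q * (j * (k * q'' + 1)) = j * (n * q'' + 2) := by rw [hn, hq', hq'']; ring
      _ = _ := by rw [hj2]; ring
  have hk2 : 2 ≤ k := by omega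
  have hj1 : j = 1 := by
    rcases Nat.lt_or_ge j 2 with h | h
    · rcases Nat.eq_zero_or_pos j with rfl | h' <;> omega
    · exfalso
      have h5 := Nat.mul_le_mul h (Nat.add_le_add_right (Nat.mul_le_mul_right q'' hk2) 1)
      have h6 : 1 ≤ q'' := by omega
      linarith
  subst hj1
  rw [one_mul] at hj3
  have hk3 : k = 3 ∧ q'' = 1 ∧ d' = 0 := by
    rcases Nat.lt_or_ge k 3 with h | h
    · obtain rfl : k = 2 := by omega
      omega
    · have hq1 : q'' = 1 := by
        by_contra hne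
        have h5 := Nat.mul_le_mul_right q'' h
        have h6 : 2 ≤ q'' := by omega
        linarith
      subst hq1
      omega
  omega

end CfsgLib.SmallRep
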