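import Cfsg.Agent.Lib.SmallRep.Main
import Cfsg.Agent.Lib.SmallRep.BorelIndex
import Cfsg.Agent.Lib.SLCard
import Cfsg.Agent.Lib.CharTheory.Schur

/-!
# Feit–Thompson, the case of equality

A faithful representation of degree `(p - 1) / 2` without normal Sylow `p`-subgroup of order `p`
forces the central quotient `PSL₂(p)`.
-/

namespace CfsgLib.SmallRep

open Matrix CfsgLib.Dickson

set_option linter.unusedSectionVars false
set_option linter.style.haveILetI false

universe u

variable {p : ℕ} [hp : Fact p.Prime]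

section field

variable {k : Type*} [Field k]

theorem exists_symSq_eq [IsAlgClosed k] (h2 : (2 : k) ≠ 0) {M : Matrix (Fin 3) (Fin 3) k}
    (hM : Mᵀ * formJ * M = formJ) (hdet : M.det = 1) :
    ∃ g : Matrix.SpecialLinearGroup (Fin 2) k, M = symSq g := by
  have e00 := congrFun (congrFun hM 0) 0
  simp [formJ, Matrix.mul_apply, Fin.sum_univ_three] at e00
  have hiso : 4 * M 0 0 * M 2 0 = M 1 0 * M 1 0 := by linear_combination e00
  have hcol : ¬ (M 0 0 = 0 ∧ M 1 0 = 0 ∧ M 2 0 = 0) := fun ⟨a, b, c⟩ => by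
    rw [Matrix.det_fin_three, a, b, c] at hdet
    simp at hdet
  obtain ⟨g, g0, g1, g2⟩ : ∃ g : Matrix.SpecialLinearGroup (Fin 2) k,
      g.1 0 0 * g.1 0 0 = M 0 0 ∧ 2 * g.1 0 0 * g.1 1 0 = M 1 0 ∧ g.1 1 0 * g.1 1 0 = M 2 0 := by
    obtain ⟨α, hα⟩ := IsAlgClosed.exists_eq_mul_self (M 0 0)
    rcases eq_or_ne α 0 with h | h
    · have h0 : M 0 0 = 0 := by rw [hα, h, mul_zero]
      have h1 : M 1 0 = 0 := mul_self_eq_zero.1 (by rw [← hiso, h0, mul_zero, zero_mul])
      obtain ⟨γ, hγ⟩ := IsAlgClosed.exists_eq_mul_self (M 2 0)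
      have hγ0 : γ ≠ 0 := fun h' => hcol ⟨h0, h1, by rw [hγ, h', mul_zero]⟩
      refine ⟨⟨!![0, -γ⁻¹; γ, 0], by simp [Matrix.det_fin_two, hγ0]⟩, ?_, ?_, ?_⟩
      · simp [h0]
      · simp [h1]
      · simp [hγ]
    · refine ⟨⟨!![α, 0; M 1 0 / (2 * α), α⁻¹], by simp [Matrix.det_fin_two, h]⟩, ?_, ?_, ?_⟩
      · simp [hα]
      · simp; field_simp
      · simp
        field_simp
        linear_combination -hiso + (4 * M 2 0) * hα
  set M' := symSq g⁻¹ * M with hM'
  have hM'J : M'ᵀ * formJ * M' = formJ := by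
    rw [hM', Matrix.transpose_mul,
      show Mᵀ * (symSq g⁻¹)ᵀ * formJ * (symSq g⁻¹ * M) =
        Mᵀ * ((symSq g⁻¹)ᵀ * formJ * symSq g⁻¹) * M by simp only [mul_assoc], symSq_form, hM]
  have hdetS : ∀ h : Matrix.SpecialLinearGroup (Fin 2) k, (symSq h).det = 1 := fun h => by
    have hd := det_eq h
    simp [symSq, symSqMat, Matrix.det_fin_three]
    linear_combination ((h.1 0 0 * h.1 1 1 - h.1 0 1 * h.1 1 0) ^ 2 +
      (h.1 0 0 * h.1 1 1 - h.1 0 1 * h.1 1 0) + 1) * hd
  have hM'd : M'.det = 1 := by rw [hM', Matrix.det_mul, hdetS, hdet, one_mul]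
  have hc0 : ∀ i, M' i 0 = if i = 0 then 1 else 0 := by
    intro i
    have e : M' i 0 = (symSq g⁻¹ * symSq g) i 0 := by
      rw [hM']
      simp only [Matrix.mul_apply, Fin.sum_univ_three]
      rw [← g0, ← g1, ← g2]
      simp [symSq, symSqMat]
    rw [e, ← map_mul, inv_mul_cancel, map_one, Matrix.one_apply]
  refine ⟨g * up (M' 0 1), ?_⟩
  rw [map_mul, ← eq_symSq_up h2 hM'J hM'd (by simp [hc0]) (by simp [hc0]) (by simp [hc0]),
    hM', ← mul_assoc, ← map_mul, mul_inv_cancel, map_one, one_mul]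

theorem eq_one_or_neg_one_of_comm [CharP k p] (hp2 : p ≠ 2) {g : Matrix.SpecialLinearGroup (Fin 2) k}
    {a b : k} (ha : a ≠ 0) (hb : b ≠ 0)
    (hga : symSq (g * up a * g⁻¹) = symSq (up a)) (hgb : symSq (g * lo b * g⁻¹) = symSq (lo b)) :
    g = 1 ∨ g = -1 := by
  have h2 : (2 : k) ≠ 0 := Ring.two_ne_zero (by rwa [ringChar.eq k p])
  have key : ∀ u : Matrix.SpecialLinearGroup (Fin 2) k, u.1.trace = 2 →
      symSq (g * u * g⁻¹) = symSq u → g * u = u * g := by
    intro u hu h
    have h' : symSq (g * u * g⁻¹ * u⁻¹) = 1 := by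
      rw [map_mul, h, ← map_mul, mul_inv_cancel, map_one]
    rcases symSq_eq_one h' with e | e
    · rw [mul_inv_eq_one, mul_inv_eq_iff_eq_mul] at e; exact e
    · exfalso
      rw [mul_inv_eq_iff_eq_mul] at e
      have e2 := congrArg (fun z : Matrix.SpecialLinearGroup (Fin 2) k => z.1.trace) e
      rw [Dickson.trace_conj, neg_one_mul, neg_one_trace] at e2
      simp only [hu] at e2
      exact mul_ne_zero h2 h2 (by linear_combination e2)
  have h1 := key _ (trace_up a) hga
  have h3 := key _ (by simp [lo, Matrix.trace_fin_two, one_add_one_eq_two]) hgb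
  have a00 := congrArg (fun z : Matrix.SpecialLinearGroup (Fin 2) k => z.1 0 0) h1
  have a01 := congrArg (fun z : Matrix.SpecialLinearGroup (Fin 2) k => z.1 0 1) h1
  have b00 := congrArg (fun z : Matrix.SpecialLinearGroup (Fin 2) k => z.1 0 0) h3
  simp only [mul_entry] at a00 a01 b00
  simp [up] at a00 a01
  simp [lo] at b00
  have g10 : g.1 1 0 = 0 := by
    rcases a00 with h | h
    · exact absurd h ha
    · exact h
  have g01 : g.1 0 1 = 0 := by
    rcases b00 with h | h
    · exact h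
    · exact absurd h hb
  have g11 : g.1 1 1 = g.1 0 0 := mul_left_cancel₀ ha (by rw [g01] at a01; linear_combination -a01)
  have hd := det_eq g
  rw [g10, g01, g11, mul_zero, sub_zero] at hd
  rcases mul_self_eq_one_iff.1 hd with h | h
  · exact Or.inl (ext_entries (by simp [h]) (by simp [g01]) (by simp [g10]) (by simp [g11, h]))
  · exact Or.inr (ext_entries (by simp [h]) (by simp [g01]) (by simp [g10]) (by simp [g11, h]))

end field

/-- The exponents form a group of order at most `(p - 1) / 2`, so they are squares. -/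
theorem exponent_pow_eq_one {G : Type*} [Group G] [Finite G] {f : ℕ} (hpf : p = 2 * f + 1)
    {R : Representation ℂ G (Fin f → ℂ)} {x : G} (hRx : R x ≠ 1) (hx : orderOf x = p)
    {n₀ : G} {j₀ : ℕ} (hn₀ : n₀ * x * n₀⁻¹ = x ^ j₀) (hj₀ : f ≤ orderOf (j₀ : ZMod p))
    {n : G} {j : ℕ} (hn : n * x * n⁻¹ = x ^ j) : (j : ZMod p) ^ f = 1 := by
  have hf : 0 < f := by
    rcases Nat.eq_zero_or_pos f with rfl | h
    · exact absurd hp.out (by rw [hpf]; exact Nat.not_prime_one)
    · exact h
  have hord : ∀ (m : G) (l : ℕ), m * x * m⁻¹ = x ^ l → orderOf (l : ZMod p) ≤ f :=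
    fun m l h => orderOf_exponent_le hRx hx h
  have hne0 : ∀ (m : G) (l : ℕ), m * x * m⁻¹ = x ^ l → (l : ZMod p) ≠ 0 := fun m l h h0 => by
    rw [ZMod.natCast_eq_zero_iff] at h0
    obtain ⟨i, rfl⟩ := h0
    rw [pow_mul, ← hx, pow_orderOf_eq_one, one_pow, mul_inv_eq_one, mul_eq_left] at h
    rw [h, orderOf_one] at hx
    exact hp.out.one_lt.ne hx
  have hcomb : ∀ i : ℕ, n * n₀ ^ i * x * (n * n₀ ^ i)⁻¹ = x ^ (j₀ ^ i * j) := by
    intro i
    have h0 : ∀ i : ℕ, n₀ ^ i * x * (n₀ ^ i)⁻¹ = x ^ (j₀ ^ i) := by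
      intro i
      induction i with
      | zero => simp
      | succ i ih =>
        calc n₀ ^ (i + 1) * x * (n₀ ^ (i + 1))⁻¹ = n₀ * (n₀ ^ i * x * (n₀ ^ i)⁻¹) * n₀⁻¹ := by
              rw [pow_succ']; group
          _ = _ := by rw [ih, ← conj_pow, hn₀, ← pow_mul, pow_succ']
    calc n * n₀ ^ i * x * (n * n₀ ^ i)⁻¹ = n * (n₀ ^ i * x * (n₀ ^ i)⁻¹) * n⁻¹ := by group
      _ = _ := by rw [h0, ← conj_pow, hn, ← pow_mul, mul_comm j]
  set u₀ : (ZMod p)ˣ := Units.mk0 (j₀ : ZMod p) (hne0 _ _ hn₀) with hu₀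
  set u : (ZMod p)ˣ := Units.mk0 (j : ZMod p) (hne0 _ _ hn) with hu
  by_contra hne
  obtain ⟨g, hg⟩ := IsCyclic.exists_generator (α := (ZMod p)ˣ)
  have hgo : orderOf g = 2 * f := by
    rw [orderOf_eq_card_of_forall_mem_zpowers hg, Nat.card_eq_fintype_card, ZMod.card_units]; omega
  have hcardU : Nat.card (ZMod p)ˣ = 2 * f := by
    rw [Nat.card_eq_fintype_card, ZMod.card_units]; omega
  have hu₀o : orderOf u₀ = f := le_antisymm (by rw [← orderOf_units]; exact hord _ _ hn₀)
    (by rw [← orderOf_units]; exact hj₀)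
  have hsq : ∀ v : (ZMod p)ˣ, v ^ f ≠ 1 → ((v ^ f : (ZMod p)ˣ) : ZMod p) = -1 := fun v hv => by
    have h1 : ((v ^ f : (ZMod p)ˣ) : ZMod p) * ((v ^ f : (ZMod p)ˣ) : ZMod p) = 1 := by
      rw [← Units.val_mul, ← pow_add, ← two_mul, ← hcardU, pow_card_eq_one', Units.val_one]
    exact (mul_self_eq_one_iff.1 h1).resolve_left fun h => hv (Units.ext h)
  have hgf : g ^ f ≠ 1 := fun h => by
    have := Nat.le_of_dvd hf (hgo ▸ orderOf_dvd_of_pow_eq_one h); omega
  have huf : u ^ f ≠ 1 := fun h => hne (by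
    have := congrArg Units.val h
    rwa [Units.val_pow_eq_pow_val, Units.val_one] at this)
  have hgu : (g * u⁻¹) ^ f = 1 := by
    rw [mul_pow, inv_pow, mul_inv_eq_one]
    exact Units.ext ((hsq g hgf).trans (hsq u huf).symm)
  have hker : Subgroup.zpowers u₀ = (powMonoidHom f : (ZMod p)ˣ →* (ZMod p)ˣ).ker := by
    refine Subgroup.eq_of_le_of_card_ge ?_ ?_
    · rw [Subgroup.zpowers_le]
      show u₀ ^ f = 1
      rw [← hu₀o, pow_orderOf_eq_one]
    · rw [IsCyclic.card_powMonoidHom_ker, hcardU, Nat.card_zpowers, hu₀o]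
      exact Nat.le_of_dvd hf (Nat.gcd_dvd_right _ _)
  have hmem : g * u⁻¹ ∈ Subgroup.zpowers u₀ := hker ▸ hgu
  obtain ⟨i, hi⟩ := mem_powers_iff_mem_zpowers.2 hmem
  have hg' : ((j₀ ^ i * j : ℕ) : ZMod p) = (g : ZMod p) := by
    have : u₀ ^ i * u = g := by rw [show u₀ ^ i = g * u⁻¹ from hi, inv_mul_cancel_right]
    rw [← this, Units.val_mul, Units.val_pow_eq_pow_val, hu₀, hu, Units.val_mk0, Units.val_mk0,
      Nat.cast_mul, Nat.cast_pow]
  have h3 := hord _ _ (hcomb i)
  rw [hg', orderOf_units, hgo] at h3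
  omega

section standard

variable {k : Type*} [Field k] [CharP k p] {G : Type*} [Group G] [Finite G] {x : G}
  {τ : G →* Matrix (Fin 3) (Fin 3) k} {a b : k}

theorem card_param_preim (hp2 : p ≠ 2) (hsq : ¬ p ^ 2 ∣ Nat.card G) (ha : a ≠ 0)
    (hua : up a ∈ preim τ) :
    Nat.card (param (preim τ)) = p := by
  classical
  haveI : Finite (param (preim τ)) := Finite.of_equiv _ uEquiv.symm
  obtain ⟨l, hl⟩ := IsPGroup.iff_card.1 (isPGroup_uG (G := preim τ) p)
  rw [card_uG] at hl
  have hl0 : l ≠ 0 := by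
    rintro rfl
    rw [pow_zero, Nat.card_eq_one_iff_unique] at hl
    obtain ⟨hs, -⟩ := hl
    have : (⟨a, hua⟩ : param (preim τ)) = 0 := Subsingleton.elim _ _
    exact ha (congrArg Subtype.val this)
  -- the image of the unipotent part embeds in the image of `τ`
  let ψ := τ.toHomUnits
  let φ : uG (preim τ) →* (Matrix (Fin 3) (Fin 3) k)ˣ :=
    (symSq (k := k)).toHomUnits.comp ((preim τ).subtype.comp (uG (preim τ)).subtype)
  have hφinj : Function.Injective φ := by
    rw [← MonoidHom.ker_eq_bot_iff, Subgroup.eq_bot_iff_forall]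
    intro v hv
    obtain ⟨t, ht⟩ := v.2
    have h1 : symSq ((v : preim τ) : Matrix.SpecialLinearGroup (Fin 2) k) = 1 :=
      congrArg Units.val (MonoidHom.mem_ker.1 hv)
    replace ht : ((v : preim τ) : Matrix.SpecialLinearGroup (Fin 2) k) = up t := ht
    rw [ht, symSq_up] at h1
    have := congrFun (congrFun h1 0) 1
    simp at this
    exact Subtype.ext (Subtype.ext (by rw [ht, this, up_zero]; rfl))
  have hle : φ.range ≤ ψ.range := by
    rintro _ ⟨v, rfl⟩
    obtain ⟨h, hh⟩ := ((v : preim τ)).2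
    exact ⟨h, Units.ext hh⟩
  have hdvd : p ^ l ∣ Nat.card G := by
    rw [← hl, ← card_uG, Nat.card_congr (MonoidHom.ofInjective hφinj).toEquiv]
    exact (Subgroup.card_dvd_of_le hle).trans (Subgroup.card_range_dvd ψ)
  have hl1 : l ≤ 1 := by
    by_contra h
    exact hsq ((pow_dvd_pow p (show 2 ≤ l by omega)).trans hdvd)
  rw [hl, show l = 1 by omega, pow_one]

theorem card_diag_preim (hp2 : p ≠ 2) (hsq : ¬ p ^ 2 ∣ Nat.card G) (hx : orderOf x = p) (ha : a ≠ 0)
    (hτx : τ x = symSq (up a)) {f : ℕ} (hpf : p = 2 * f + 1)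
    (hexp : ∀ (n : G) (j : ℕ), n * x * n⁻¹ = x ^ j → (j : ZMod p) ^ f = 1) :
    Nat.card (diagHom (preim τ)).range ≤ p - 1 := by
  classical
  have hua : up a ∈ preim τ := ⟨x, hτx⟩
  have hcp := card_param_preim hp2 hsq ha hua
  haveI : Finite (param (preim τ)) := Finite.of_equiv _ uEquiv.symm
  have hτxne : τ x ≠ 1 := fun h => by
    rw [hτx, symSq_up] at h
    have := congrFun (congrFun h 0) 1
    simp at this
    exact ha this
  have hroot : ∀ r : (diagHom (preim τ)).range, ((r : kˣ) : k) ^ (p - 1) = 1 := by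
    rintro ⟨_, n, rfl⟩
    rw [coe_diagHom]
    set g : Matrix.SpecialLinearGroup (Fin 2) k :=
      (((n : preim τ)) : Matrix.SpecialLinearGroup (Fin 2) k) with hg
    obtain ⟨s, hs⟩ : (n : preim τ) * ⟨up a, hua⟩ * (n : preim τ)⁻¹ ∈ uG (preim τ) :=
      conj_mem_uG n.2 ⟨a, rfl⟩
    replace hs : g * up a * g⁻¹ = up s := hs
    have h01 := (conj_up g a).1
    rw [hs] at h01
    simp at h01
    -- the parameters are the multiples of `a`
    have hgen : ∀ s' : param (preim τ), ∃ i : ℕ, (s' : k) = (i : k) * a := by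
      intro s'
      have hao : addOrderOf (⟨a, hua⟩ : param (preim τ)) = p := by
        refine addOrderOf_eq_prime (Subtype.ext ?_) (fun h => ha (congrArg Subtype.val h))
        simp [nsmul_eq_mul]
      have htop : AddSubgroup.zmultiples (⟨a, hua⟩ : param (preim τ)) = ⊤ :=
        AddSubgroup.eq_top_of_card_eq _ (by rw [Nat.card_zmultiples, hao, hcp])
      have : s' ∈ AddSubgroup.zmultiples (⟨a, hua⟩ : param (preim τ)) := htop ▸ AddSubgroup.mem_top _
      obtain ⟨i, hi⟩ := mem_multiples_iff_mem_zmultiples.2 this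
      exact ⟨i, by
        have := congrArg Subtype.val hi
        simpa [nsmul_eq_mul] using this.symm⟩
    have hsmem : up s ∈ preim τ := hs ▸ (preim τ).mul_mem ((preim τ).mul_mem (n : preim τ).2 hua)
      ((preim τ).inv_mem (n : preim τ).2)
    obtain ⟨i, hi⟩ := hgen ⟨s, hsmem⟩
    obtain ⟨h, hh⟩ := (n : preim τ).2
    replace hh : τ h = symSq g := hh
    have hinv : τ h⁻¹ = symSq g⁻¹ := by
      calc τ h⁻¹ = τ h⁻¹ * (symSq g * symSq g⁻¹) := by
            rw [← map_mul symSq, mul_inv_cancel, map_one, mul_one]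
        _ = symSq g⁻¹ := by rw [← mul_assoc, ← hh, ← map_mul τ, inv_mul_cancel, map_one, one_mul]
    have hconj : τ (h * x * h⁻¹) = τ x ^ i := by
      rw [map_mul, map_mul, hinv, hh, hτx, ← map_mul, ← map_mul, hs, ← map_pow, up_pow]
      simp at hi
      rw [hi]
    obtain ⟨m, l, hm, hml⟩ := lift_exponent hx hsq τ hτxne hconj
    have hif : ((i : ZMod p)) ^ f = 1 := hml ▸ hexp m l hm
    have hit : (i : k) = g.1 0 0 ^ 2 := by
      refine mul_right_cancel₀ ha ?_
      simp at hi
      rw [← hi, h01]; ring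
    have h1 := congrArg (ZMod.castHom (dvd_refl p) k) hif
    rw [map_pow, map_natCast, map_one, hit, ← pow_mul] at h1
    rw [hpf, Nat.add_sub_cancel]
    exact h1
  have hp1 : 0 < p - 1 := by have := hp.out.two_le; omega
  let P : Finset k := (Polynomial.nthRootsFinset (p - 1) (1 : k))
  have hmem : ∀ r : (diagHom (preim τ)).range, ((r : kˣ) : k) ∈ P := fun r =>
    (Polynomial.mem_nthRootsFinset hp1 _).2 (hroot r)
  have h1 := Nat.card_le_card_of_injective (fun r => (⟨_, hmem r⟩ : P))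
    (fun r r' h => Subtype.ext (Units.ext (congrArg Subtype.val h)))
  refine h1.trans ?_
  rw [Nat.card_eq_fintype_card, Fintype.card_coe]
  simp only [P, Polynomial.nthRootsFinset_def]
  exact (Multiset.toFinset_card_le _).trans (Polynomial.card_nthRoots _ _)

/-- The preimage is a copy of `SL₂(p)`. -/
theorem exists_equiv_preim (hp2 : p ≠ 2) (hsq : ¬ p ^ 2 ∣ Nat.card G) (hx : orderOf x = p)
    (hp5 : 5 ≤ p) (ha : a ≠ 0) (hb : b ≠ 0) (hτx : τ x = symSq (up a)) {y : G}
    (hτy : τ y = symSq (lo b)) {f : ℕ} (hpf : p = 2 * f + 1)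
    (hexp : ∀ (n : G) (j : ℕ), n * x * n⁻¹ = x ^ j → (j : ZMod p) ^ f = 1) :
    Nonempty (preim τ ≃* Matrix.SpecialLinearGroup (Fin 2) (ZMod p)) := by
  have hua : up a ∈ preim τ := ⟨x, hτx⟩
  have hlb : lo b ∈ preim τ := ⟨y, hτy⟩
  have hneg : (-1 : Matrix.SpecialLinearGroup (Fin 2) k) ∈ preim τ := by
    refine ⟨1, ?_⟩
    rw [map_one]
    ext i j
    fin_cases i <;> fin_cases j <;> simp [symSq, symSqMat]
  have hcp := card_param_preim hp2 hsq ha hua
  obtain ⟨hn, t, ht, h1, h2⟩ := index_eq_succ p hp2 hneg ha hua hb hlb (by omega)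
  obtain ⟨H, hH, ⟨e⟩⟩ := exists_SL2p p ht h1 h2
  have hcard := card_eq (G := preim τ)
  rw [hn, hcp] at hcard
  have hd := card_diag_preim hp2 hsq hx ha hτx hpf hexp
  have hHc : Nat.card H = p * (p ^ 2 - 1) := by
    rw [Nat.card_congr e.toEquiv, CfsgLib.SLCard.card_SL_two, ZMod.card]
  have hle : Nat.card (preim τ) ≤ Nat.card H := by
    rw [hcard, hHc, show p ^ 2 - 1 = (p + 1) * (p - 1) by
      simpa using Nat.sq_sub_sq p 1, ← mul_assoc p, mul_comm p (p + 1), mul_assoc (p + 1) p]
    exact Nat.mul_le_mul_left _ (Nat.mul_le_mul_left _ hd)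
  have : H = preim τ := Subgroup.eq_of_le_of_card_ge hH hle
  exact ⟨(MulEquiv.subgroupCongr this.symm).trans e⟩

theorem map_center_of_equiv {A B : Type*} [Group A] [Group B] (e : A ≃* B) :
    (Subgroup.center A).map e.toMonoidHom = Subgroup.center B := by
  ext z
  rw [Subgroup.mem_map, Subgroup.mem_center_iff]
  constructor
  · rintro ⟨w, hw, rfl⟩ v
    obtain ⟨v, rfl⟩ := e.surjective v
    show e v * e w = e w * e v
    rw [← map_mul, ← map_mul, Subgroup.mem_center_iff.1 hw v]
  · intro h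
    refine ⟨e.symm z, Subgroup.mem_center_iff.2 fun v => e.injective ?_, e.apply_symm_apply z⟩
    rw [map_mul, map_mul, e.apply_symm_apply, h]

/-- The image is `PSL₂(p)`. -/
theorem exists_equiv_range [IsAlgClosed k] (hp2 : p ≠ 2) (ha : a ≠ 0) (hb : b ≠ 0)
    (hτx : τ x = symSq (up a)) {y : G} (hτy : τ y = symSq (lo b))
    (hform : ∀ g, (τ g)ᵀ * formJ * τ g = formJ ∧ (τ g).det = 1)
    (he : Nonempty (preim τ ≃* Matrix.SpecialLinearGroup (Fin 2) (ZMod p))) :
    Nonempty (τ.toHomUnits.range ≃* Matrix.ProjectiveSpecialLinearGroup (Fin 2) (ZMod p)) := by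
  obtain ⟨e⟩ := he
  have h2k : (2 : k) ≠ 0 := Ring.two_ne_zero (by rwa [ringChar.eq k p])
  let φ : preim τ →* τ.toHomUnits.range :=
    ((symSq (k := k)).toHomUnits.comp (preim τ).subtype).codRestrict _ fun g => by
      obtain ⟨h, hh⟩ := g.2
      exact ⟨h, Units.ext hh⟩
  have hsurj : Function.Surjective φ := by
    rintro ⟨_, h, rfl⟩
    obtain ⟨g, hg⟩ := exists_symSq_eq h2k (hform h).1 (hform h).2
    exact ⟨⟨g, h, hg⟩, Subtype.ext (Units.ext hg.symm)⟩
  have hker : φ.ker = Subgroup.center (preim τ) := by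
    ext g
    rw [MonoidHom.mem_ker, Subgroup.mem_center_iff]
    constructor
    · intro h z
      have h1 : symSq (g : Matrix.SpecialLinearGroup (Fin 2) k) = 1 :=
        congrArg (fun w => Units.val (Subtype.val w)) h
      apply Subtype.ext
      rcases symSq_eq_one h1 with e' | e' <;> simp [e']
    · intro h
      have key : ∀ u : preim τ, (g : Matrix.SpecialLinearGroup (Fin 2) k) * u *
          (g : Matrix.SpecialLinearGroup (Fin 2) k)⁻¹ = u := fun u => by
        have := congrArg Subtype.val (h u)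
        simp only [Subgroup.coe_mul] at this
        rw [← this, mul_inv_cancel_right]
      have := eq_one_or_neg_one_of_comm (p := p) hp2 ha hb
        (by rw [key ⟨up a, x, hτx⟩]) (by rw [key ⟨lo b, y, hτy⟩])
      apply Subtype.ext
      apply Units.ext
      show symSq (g : Matrix.SpecialLinearGroup (Fin 2) k) = 1
      rcases this with e' | e' <;> rw [e']
      · exact map_one _
      · ext i j
        fin_cases i <;> fin_cases j <;> simp [symSq, symSqMat]
  refine ⟨((QuotientGroup.quotientKerEquivOfSurjective φ hsurj).symm.trans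
    (QuotientGroup.quotientMulEquivOfEq hker)).trans (QuotientGroup.congr _ _ e ?_)⟩
  exact map_center_of_equiv e

end standard

/-- A representation of degree at most the order of some induced exponent is irreducible. -/
theorem irreducible_of_exponent {L : Type*} [Group L] [Finite L] {f : ℕ} (hf : 0 < f)
    (S : Representation ℂ L (Fin f → ℂ)) {x : L} (hSx : S x ≠ 1) (hx : orderOf x = p) {n : L} {j : ℕ}
    (hn : n * x * n⁻¹ = x ^ j) (hj : f ≤ orderOf (j : ZMod p)) : S.IsIrreducible := by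
  classical
  have hbig : ∀ W : Subrepresentation S, W.toRepresentation x ≠ 1 → W.toSubmodule = ⊤ := by
    intro W hW
    let e := (Module.finBasis ℂ W.toSubmodule).equivFun
    let R' : Representation ℂ L (Fin (Module.finrank ℂ W.toSubmodule) → ℂ) :=
      { toFun := fun g => e.conj (W.toRepresentation g)
        map_one' := by rw [map_one]; exact e.conj_id
        map_mul' := fun g h => by
          rw [map_mul, Module.End.mul_eq_comp, LinearEquiv.conj_comp]; rfl }
    have hR' : R' x ≠ 1 := fun h => hW (e.conj.injective (h.trans e.conj_id.symm))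
    have h1 := orderOf_exponent_le (R := R') hR' hx hn
    refine Submodule.eq_top_of_finrank_eq (le_antisymm (Submodule.finrank_le _) ?_)
    rw [Module.finrank_fin_fun]
    exact hj.trans h1
  haveI : Nonempty (Fin f) := ⟨⟨0, hf⟩⟩
  refine @IsSimpleOrder.mk _ _ _ ⟨⊥, ⊤, fun e => ?_⟩ fun W => ?_
  · exact bot_ne_top (α := Submodule ℂ (Fin f → ℂ)) (congrArg Subrepresentation.toSubmodule e)
  · obtain ⟨W', hW'⟩ := CfsgLib.CharTheory.exists_isCompl_subrep S W
    by_cases hW : W.toRepresentation x = 1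
    · left
      have hW'x : W'.toRepresentation x ≠ 1 := fun h => hSx (LinearMap.ext fun v => by
        obtain ⟨u, hu, u', hu', rfl⟩ := Submodule.mem_sup.1
          (show v ∈ W.toSubmodule ⊔ W'.toSubmodule from hW'.sup_eq_top ▸ Submodule.mem_top)
        have e1 : S x u = u := congrArg Subtype.val (LinearMap.congr_fun hW ⟨u, hu⟩)
        have e2 : S x u' = u' := congrArg Subtype.val (LinearMap.congr_fun h ⟨u', hu'⟩)
        rw [map_add, e1, e2]; rfl)
      refine Subrepresentation.toSubmodule_injective ?_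
      have := hW'.inf_eq_bot
      rw [hbig W' hW'x, inf_top_eq] at this
      exact this
    · exact Or.inr (Subrepresentation.toSubmodule_injective (hbig W hW))

/-- Feit–Thompson: degree `(p - 1) / 2`. -/
theorem central_quotient_psl {G : Type u} [Group G] [Finite G] {f : ℕ} (hpf : p = 2 * f + 1) {x : G}
    (hx : orderOf x = p) (hsq : ¬ p ^ 2 ∣ Nat.card G) (R : Representation ℂ G (Fin f → ℂ))
    (hR : Function.Injective R) (hnn : ¬ (Subgroup.zpowers x).Normal) :
    Nonempty ((G ⧸ Subgroup.center G) ≃*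
      Matrix.ProjectiveSpecialLinearGroup (Fin 2) (ZMod p)) := by
  classical
  have hf0 : f ≠ 0 := fun h => by
    rw [h] at hpf; exact absurd hp.out (by rw [hpf]; exact Nat.not_prime_one)
  have hf1 : f ≠ 1 := by
    rintro rfl
    apply hnn
    haveI : IsMulCommutative G := ⟨⟨fun a b => hR (by
      rw [map_mul, map_mul]
      apply LinearMap.toMatrix'.injective
      rw [LinearMap.toMatrix'_mul, LinearMap.toMatrix'_mul]
      ext i j
      rw [Matrix.mul_apply, Matrix.mul_apply, Fin.sum_univ_one, Fin.sum_univ_one,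
        Subsingleton.elim i 0, Subsingleton.elim j 0, mul_comm])⟩⟩
    exact ⟨fun z hz g => by rwa [mul_comm' g z, mul_inv_cancel_right]⟩
  have hp5 : 5 ≤ p := by omega
  have hp2 : p ≠ 2 := by omega
  have hRx : R x ≠ 1 := fun h1 => by
    rw [hR (h1.trans (map_one R).symm), orderOf_one] at hx
    exact hp.out.one_lt.ne hx
  rcases normal_or_orth (f := f) (by omega) G x hx hsq R hR with h |
    ⟨k, hk, hka, hkc, σ, J, hJs, hJ, hσ, h2, h3, g₀, hg₀⟩
  · exact absurd h hnn
  have h2k : (2 : k) ≠ 0 := Ring.two_ne_zero (by rwa [ringChar.eq k p])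
  obtain ⟨τ, a, b, ha, hb, hτx, hτy, hform⟩ := exists_standard hp2 hx σ J hJs hJ hσ h2 h3 hg₀
  obtain ⟨n₀, j₀, hn₀, hj₀⟩ := exists_square_exponent hp2 hx hsq σ J hJs hJ hσ h2 h3 hg₀
  have hfj₀ : f ≤ orderOf (j₀ : ZMod p) := by omega
  have hexp : ∀ (n : G) (j : ℕ), n * x * n⁻¹ = x ^ j → (j : ZMod p) ^ f = 1 := fun n j h =>
    exponent_pow_eq_one hpf hRx hx hn₀ hfj₀ h
  have he := exists_equiv_preim hp2 hsq hx hp5 ha hb hτx hτy hpf hexp
  obtain ⟨ε⟩ := exists_equiv_range hp2 ha hb hτx hτy hform he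
  set ψ := τ.toHomUnits with hψ
  set y := g₀ * x * g₀⁻¹ with hy
  have hxp : x ^ p = 1 := by rw [← hx, pow_orderOf_eq_one]
  have hψx : ψ x ≠ 1 := fun h => by
    have h' : symSq (up a) = 1 := hτx.symm.trans (congrArg Units.val h)
    rw [symSq_up] at h'
    have := congrFun (congrFun h' 0) 1
    simp at this
    exact ha this
  set K := ψ.ker with hK
  have hKp : ¬ p ∣ Nat.card K := by
    intro h
    have h1 := K.card_mul_index
    rw [hK, Subgroup.index_ker] at h1
    have h2' : p ∣ Nat.card ψ.range := by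
      have := Subgroup.orderOf_dvd_natCard ψ.range (MonoidHom.mem_range.2 ⟨x, rfl⟩)
      rwa [orderOf_eq_prime (by rw [← map_pow, hxp, map_one]) hψx] at this
    exact hsq (h1 ▸ (sq p).symm ▸ Nat.mul_dvd_mul h h2')
  have hcomm := commute_of_small hR hxp (by omega) _ K rfl hKp
    (fun z hz => (inferInstance : ψ.ker.Normal).conj_mem z hz x)
  set L := Subgroup.centralizer (K : Set G) with hL
  have hxL : x ∈ L := Subgroup.mem_centralizer_iff.2 fun z hz => (hcomm z hz).symm
  have hLn : L.Normal := by rw [hL]; infer_instance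
  have hyL : y ∈ L := hLn.conj_mem x hxL g₀
  -- a conjugate inside `L`
  have hcard : ∀ g : G, orderOf g = p → ∃ T : Sylow p G, (T : Subgroup G) = Subgroup.zpowers g := by
    intro g hg
    obtain ⟨T, hT⟩ := (IsPGroup.of_card (n := 1) (by rw [Nat.card_zpowers, hg, pow_one]) :
      IsPGroup p (Subgroup.zpowers g)).exists_le_sylow
    refine ⟨T, (Subgroup.eq_of_le_of_card_ge hT ?_).symm⟩
    obtain ⟨l, hl⟩ := IsPGroup.iff_card.1 T.isPGroup'
    rw [Nat.card_zpowers, hg, hl]
    rcases Nat.lt_or_ge l 2 with hl2 | hl2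
    · exact le_trans (Nat.pow_le_pow_right hp.out.pos (show l ≤ 1 by omega)) (pow_one p).le
    · exact absurd ((pow_dvd_pow p hl2).trans (hl ▸ Subgroup.card_subgroup_dvd_card _)) hsq
  obtain ⟨T, hT⟩ := hcard x hx
  obtain ⟨T', hT'⟩ := hcard y (by
    rw [← hx]; exact orderOf_injective (MulAut.conj g₀).toMonoidHom (MulAut.conj g₀).injective x)
  have hTL : (T : Subgroup G) ≤ L := by rw [hT, Subgroup.zpowers_le]; exact hxL
  have hTL' : (T' : Subgroup G) ≤ L := by rw [hT', Subgroup.zpowers_le]; exact hyL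
  obtain ⟨t, ht⟩ := MulAction.exists_smul_eq L (T.subtype hTL) (T'.subtype hTL')
  have hyt : ∃ z : ℤ, y = (t : G) * x ^ z * (t : G)⁻¹ := by
    have h1 : (⟨y, hyL⟩ : L) ∈ ((T'.subtype hTL' : Sylow p L) : Subgroup L) := by
      show y ∈ (T' : Subgroup G)
      rw [hT']; exact Subgroup.mem_zpowers _
    rw [← ht, Sylow.coe_subgroup_smul] at h1
    obtain ⟨w, hw, hwe⟩ := h1
    have hw' : (w : G) ∈ (T : Subgroup G) := hw
    rw [hT] at hw'
    obtain ⟨z, hz⟩ := Subgroup.mem_zpowers_iff.1 hw'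
    exact ⟨z, by rw [hz]; exact (congrArg Subtype.val hwe).symm⟩
  have hneT : τ x * τ ((t : G) * x * (t : G)⁻¹) ≠ τ ((t : G) * x * (t : G)⁻¹) * τ x := by
    intro h
    obtain ⟨z, hz⟩ := hyt
    have hc : Commute (ψ x) (ψ y) := by
      rw [hz, ← conj_zpow, map_zpow]
      exact Commute.zpow_right (Units.ext h) z
    have h4 : symSq (up a * lo b) = symSq (lo b * up a) := by
      rw [map_mul, map_mul, ← hτx, ← hτy]
      exact congrArg Units.val hc.eq
    have h5 : symSq (up a * lo b * (lo b * up a)⁻¹) = 1 := by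
      rw [map_mul, h4, ← map_mul, mul_inv_cancel, map_one]
    rcases symSq_eq_one h5 with e | e
    · rw [mul_inv_eq_one] at e
      have := congrArg (fun g : Matrix.SpecialLinearGroup (Fin 2) k => g.1 0 0) e
      beta_reduce at this
      rw [mul_entry, mul_entry] at this
      simp [up, lo, ha, hb] at this
    · rw [mul_inv_eq_iff_eq_mul, neg_one_mul] at e
      have := congrArg (fun g : Matrix.SpecialLinearGroup (Fin 2) k => g.1 1 1) e
      have := congrArg (fun g : Matrix.SpecialLinearGroup (Fin 2) k => g.1 0 1) e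
      beta_reduce at this
      rw [Matrix.SpecialLinearGroup.coe_neg, Matrix.neg_apply, mul_entry, mul_entry] at this
      simp [up, lo] at this
      exact mul_ne_zero h2k ha (by linear_combination this)
  have hJs' : (formJ : Matrix (Fin 3) (Fin 3) k)ᵀ = formJ := by
    ext i j; fin_cases i <;> fin_cases j <;> simp [formJ]
  have hJ' : (formJ : Matrix (Fin 3) (Fin 3) k).det ≠ 0 := by
    simp [formJ, Matrix.det_fin_three, h2k]
  obtain ⟨n₁, j₁, hn₁, hj₁⟩ := exists_square_exponent (x := (⟨x, hxL⟩ : L)) hp2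
    ((Subgroup.orderOf_mk x hxL).trans hx)
    (fun h => hsq (h.trans (Subgroup.card_subgroup_dvd_card L))) (τ.comp L.subtype) formJ hJs' hJ'
    (fun g => (hform g).1)
    (by
      show (τ x - 1) ^ 2 ≠ 0
      rw [hτx, symSq_up]
      intro h
      have := congrFun (congrFun h 0) 2
      simp [sq, Matrix.mul_apply, Fin.sum_univ_three] at this
      rcases this with h' | h' | h' <;> first | exact ha h' | exact h2k h')
    (by
      show (τ x - 1) ^ 3 = 0
      rw [hτx, symSq_up]
      ext i j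
      fin_cases i <;> fin_cases j <;> simp [pow_succ, Matrix.mul_apply, Fin.sum_univ_three])
    (g₀ := t) hneT
  haveI hirr : Representation.IsIrreducible (R.comp L.subtype : Representation ℂ L (Fin f → ℂ)) :=
    irreducible_of_exponent (Nat.pos_of_ne_zero hf0) (R.comp L.subtype) (x := (⟨x, hxL⟩ : L)) hRx
      ((Subgroup.orderOf_mk x hxL).trans hx) hn₁ (by omega)
  have hKZ : K = Subgroup.center G := by
    apply le_antisymm
    · intro z hz
      rw [Subgroup.mem_center_iff]
      have hs := CfsgLib.CharTheory.eq_smul_id_of_commute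
        (R.comp L.subtype : Representation ℂ L (Fin f → ℂ)) (R z) (fun l => by
          show R z * R (l : G) = R (l : G) * R z
          rw [← map_mul, ← map_mul, Subgroup.mem_centralizer_iff.1 l.2 z hz])
      intro g
      apply hR
      rw [map_mul, map_mul, hs, mul_smul_comm, smul_mul_assoc, mul_one, one_mul]
    · intro z hz
      rw [Subgroup.mem_center_iff] at hz
      obtain ⟨g, hg⟩ := exists_symSq_eq h2k (hform z).1 (hform z).2
      have key : ∀ (u : G) (v : Matrix.SpecialLinearGroup (Fin 2) k), τ u = symSq v →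
          symSq (g * v * g⁻¹) = symSq v := by
        intro u v huv
        rw [map_mul, map_mul, ← hg, ← huv, ← map_mul τ, ← hz u, map_mul τ, mul_assoc, hg,
          ← map_mul symSq, mul_inv_cancel, map_one, mul_one]
      refine MonoidHom.mem_ker.2 (Units.ext ?_)
      show τ z = 1
      rw [hg]
      rcases eq_one_or_neg_one_of_comm (p := p) hp2 ha hb (key x _ hτx) (key y _ hτy) with e | e <;>
        rw [e]
      · exact map_one _
      · ext i j
        fin_cases i <;> fin_cases j <;> simp [symSq, symSqMat]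
  exact ⟨((QuotientGroup.quotientMulEquivOfEq hKZ.symm).trans
    (QuotientGroup.quotientKerEquivRange ψ)).trans ε⟩

end CfsgLib.SmallRep
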