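import Mathlib

/-!
# Truncated logarithm of a unipotent element in characteristic `p`

For `X ^ (p - 2) = 0` the truncated logarithm `L` of `A = 1 + X` satisfies `A = exp L`, turns powers
into multiples, and conjugation by `A` is given on `ker (ad L) ^ 3` by the quadratic formula.
-/

namespace CfsgLib.SmallRep

open Polynomial

variable (k : Type*) [Field k] (p : ℕ)

/-- The truncated logarithm `log (1 + X)`. -/
noncomputable def logPoly : k[X] :=
  ∑ i ∈ Finset.range (p - 1), C ((-1) ^ i * ((i + 1 : ℕ) : k)⁻¹) * X ^ (i + 1)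

/-- The truncated exponential. -/
noncomputable def expPoly : k[X] := ∑ j ∈ Finset.range p, C ((j.factorial : k)⁻¹) * X ^ j

variable {k p} [hp : Fact p.Prime] [CharP k p]

set_option linter.unusedSectionVars false

theorem natCast_ne_zero_of_lt {i : ℕ} (h0 : i ≠ 0) (hi : i < p) : (i : k) ≠ 0 := by
  rw [Ne, CharP.cast_eq_zero_iff k p]
  exact fun h => absurd (Nat.le_of_dvd (Nat.pos_of_ne_zero h0) h) (by omega)

theorem low_vanish {h a b : k[X]} {n : ℕ} (hn : n < p) (h0 : h.coeff 0 = 0) (ha : a.coeff 0 ≠ 0)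
    (hd : X ^ n ∣ a * derivative h + b * h) : X ^ (n + 1) ∣ h := by
  suffices ∀ j ≤ n + 1, X ^ j ∣ h from this _ le_rfl
  intro j hj
  induction j with
  | zero => simp
  | succ j ih =>
    obtain ⟨q, hq⟩ := ih (by omega)
    rcases Nat.eq_zero_or_pos j with rfl | hj0
    · rw [pow_one, X_dvd_iff]; exact h0
    · obtain ⟨i, rfl⟩ := Nat.exists_eq_succ_of_ne_zero hj0.ne'
      have hc : (a * derivative h + b * h).coeff i = 0 := X_pow_dvd_iff.1 hd i (by omega)
      have he : a * derivative h + b * h =
          X ^ i * (C ((i + 1 : ℕ) : k) * a * q + X * (a * derivative q + b * q)) := by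
        rw [hq, derivative_mul, derivative_X_pow, Nat.succ_eq_add_one, Nat.add_sub_cancel]
        ring
      rw [he, coeff_X_pow_mul', if_pos le_rfl, Nat.sub_self, coeff_add, coeff_X_mul_zero,
        add_zero, mul_coeff_zero, mul_coeff_zero, coeff_C_zero] at hc
      have hq0 : q.coeff 0 = 0 := by
        rcases mul_eq_zero.1 hc with h' | h'
        · rcases mul_eq_zero.1 h' with h'' | h''
          · exact absurd h'' (natCast_ne_zero_of_lt (by omega) (by omega))
          · exact absurd h'' ha
        · exact h'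
      obtain ⟨r, hr⟩ := X_dvd_iff.2 hq0
      exact ⟨r, by rw [hq, hr, pow_succ _ (i + 1), mul_assoc]⟩

theorem coeff_zero_logPoly : (logPoly k p).coeff 0 = 0 := by
  simp [logPoly, coeff_X_pow]

theorem derivative_logPoly :
    derivative (logPoly k p) = ∑ i ∈ Finset.range (p - 1), (-X) ^ i := by
  rw [logPoly, derivative_sum]
  refine Finset.sum_congr rfl fun i hi => ?_
  have h0 : ((i + 1 : ℕ) : k) ≠ 0 :=
    natCast_ne_zero_of_lt (by omega) (by have := Finset.mem_range.1 hi; omega)
  rw [derivative_C_mul_X_pow, mul_assoc, inv_mul_cancel₀ h0, mul_one, Nat.add_sub_cancel,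
    neg_pow (X : k[X]), map_pow, map_neg, map_one]

theorem one_add_X_mul_derivative :
    (1 + X) * derivative (logPoly k p) = 1 - (-X) ^ (p - 1) := by
  rw [derivative_logPoly, ← mul_neg_geom_sum (-X : k[X]) (p - 1), sub_neg_eq_add]

theorem coeff_zero_expPoly : (expPoly k p).coeff 0 = 1 := by
  rw [expPoly, finsetSum_coeff, Finset.sum_eq_single 0]
  · simp
  · intro b _ hb; simp [coeff_X_pow, hb, Ne.symm hb]
  · intro h; exact absurd (Finset.mem_range.2 hp.out.pos) h

theorem derivative_expPoly :
    derivative (expPoly k p) = expPoly k p - C (((p - 1).factorial : k)⁻¹) * X ^ (p - 1) := by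
  have hp1 : p = (p - 1) + 1 := by have := hp.out.pos; omega
  have e1 : expPoly k p = (∑ j ∈ Finset.range (p - 1), C ((j.factorial : k)⁻¹) * X ^ j) +
      C (((p - 1).factorial : k)⁻¹) * X ^ (p - 1) := by
    rw [expPoly]; conv_lhs => rw [hp1, Finset.sum_range_succ]
  have e2 : derivative (expPoly k p) =
      ∑ j ∈ Finset.range (p - 1), C ((j.factorial : k)⁻¹) * X ^ j := by
    rw [expPoly, derivative_sum]
    conv_lhs => rw [hp1, Finset.sum_range_succ']
    simp only [derivative_C_mul_X_pow, Nat.factorial_zero, Nat.cast_zero, mul_zero, map_zero,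
      zero_mul, add_zero, Nat.add_sub_cancel]
    refine Finset.sum_congr rfl fun j hj => ?_
    have h0 : ((j + 1 : ℕ) : k) ≠ 0 :=
      natCast_ne_zero_of_lt (by omega) (by have := Finset.mem_range.1 hj; omega)
    congr 2
    rw [Nat.factorial_succ, Nat.cast_mul, mul_inv, mul_comm ((j + 1 : ℕ) : k)⁻¹, mul_assoc,
      inv_mul_cancel₀ h0, mul_one]
  rw [e2, e1, add_sub_cancel_right]

theorem expPoly_logPoly : X ^ p ∣ (expPoly k p).comp (logPoly k p) - (1 + X) := by
  have hl : X ∣ logPoly k p := X_dvd_iff.2 coeff_zero_logPoly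
  have hp1 : (p - 1) + 1 = p := Nat.sub_add_cancel hp.out.pos
  nth_rewrite 1 [← hp1]
  refine low_vanish (a := 1 + X) (b := -1) (by have := hp.out.pos; omega) ?_ (by simp) ?_
  · rw [coeff_sub, coeff_zero_eq_eval_zero, eval_comp, ← coeff_zero_eq_eval_zero,
      coeff_zero_logPoly, ← coeff_zero_eq_eval_zero, coeff_zero_expPoly]
    simp
  · rw [derivative_sub, derivative_comp, derivative_expPoly, sub_comp, mul_comp, C_comp,
      X_pow_comp, derivative_add, derivative_one, derivative_X, zero_add]
    set g := (expPoly k p).comp (logPoly k p)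
    set c := C (((p - 1).factorial : k)⁻¹)
    have : (1 + X) * (derivative (logPoly k p) * (g - c * logPoly k p ^ (p - 1)) - 1) +
        -1 * (g - (1 + X)) =
        -((-1) ^ (p - 1) * X ^ (p - 1) * (g - c * logPoly k p ^ (p - 1))) -
          c * logPoly k p ^ (p - 1) := by
      rw [← neg_pow, mul_sub (1 + X), ← mul_assoc, one_add_X_mul_derivative]
      ring
    rw [this]
    exact dvd_sub (dvd_neg.2 (dvd_mul_of_dvd_left (dvd_mul_left _ _) _))
      (dvd_mul_of_dvd_right (pow_dvd_pow_of_dvd hl _) _)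

theorem logPoly_pow (w : ℕ) :
    X ^ p ∣ (logPoly k p).comp ((1 + X) ^ w - 1) - C (w : k) * logPoly k p := by
  have hp1 : (p - 1) + 1 = p := Nat.sub_add_cancel hp.out.pos
  nth_rewrite 1 [← hp1]
  refine low_vanish (a := 1 + X) (b := 0) (by have := hp.out.pos; omega) ?_ (by simp) ?_
  · rw [coeff_sub, coeff_zero_eq_eval_zero, eval_comp, mul_coeff_zero, coeff_zero_logPoly]
    simp [← coeff_zero_eq_eval_zero, coeff_zero_logPoly]
  · rw [zero_mul, add_zero, derivative_sub, derivative_comp, derivative_C_mul, derivative_sub,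
      derivative_one, sub_zero, derivative_pow, derivative_add, derivative_one, derivative_X,
      zero_add, mul_one]
    rcases Nat.eq_zero_or_pos w with rfl | hw
    · simp
    obtain ⟨v, rfl⟩ := Nat.exists_eq_succ_of_ne_zero hw.ne'
    rw [Nat.succ_eq_add_one, Nat.add_sub_cancel]
    set u : k[X] := (1 + X) ^ (v + 1) - 1 with hu
    have hXu : X ∣ u := by
      rw [X_dvd_iff, hu, coeff_sub, coeff_zero_eq_eval_zero, coeff_zero_eq_eval_zero]
      simp
    have h1 := congrArg (fun q : k[X] => q.comp u) (one_add_X_mul_derivative (k := k) (p := p))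
    simp only [mul_comp, add_comp, one_comp, X_comp, sub_comp, pow_comp, neg_comp] at h1
    have hu1 : (1 : k[X]) + u = (1 + X) * (1 + X) ^ v := by rw [hu, add_sub_cancel, pow_succ']
    have key : (1 + X) * (C ((v + 1 : ℕ) : k) * (1 + X) ^ v * (derivative (logPoly k p)).comp u -
        C ((v + 1 : ℕ) : k) * derivative (logPoly k p)) =
        C ((v + 1 : ℕ) : k) * ((-X) ^ (p - 1) - (-u) ^ (p - 1)) := by
      linear_combination (C ((v + 1 : ℕ) : k)) * h1 -
        (C ((v + 1 : ℕ) : k)) * one_add_X_mul_derivative (k := k) (p := p) -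
        (C ((v + 1 : ℕ) : k) * (derivative (logPoly k p)).comp u) * hu1
    rw [key]
    refine dvd_mul_of_dvd_right (dvd_sub ?_ ?_) _
    · rw [neg_pow]; exact dvd_mul_left _ _
    · exact pow_dvd_pow_of_dvd (dvd_neg.2 hXu) _

variable {R : Type*} [Ring R] [Algebra k R] {x : R} {n : ℕ}

theorem aeval_eq_zero_of_dvd (hx : x ^ n = 0) {f : k[X]} (h : X ^ n ∣ f) : aeval x f = 0 := by
  obtain ⟨q, rfl⟩ := h
  simp [hx]

/-- The logarithm of `1 + x`. -/
noncomputable def log (k : Type*) [Field k] [Algebra k R] (p : ℕ) (x : R) : R :=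
  aeval x (logPoly k p)

theorem exp_log (hx : x ^ p = 0) : aeval (log k p x) (expPoly k p) = 1 + x := by
  rw [log, ← aeval_comp, ← sub_eq_zero]
  have := aeval_eq_zero_of_dvd hx (expPoly_logPoly (k := k) (p := p))
  simpa using this

theorem log_pow (hx : x ^ p = 0) (w : ℕ) : log k p ((1 + x) ^ w - 1) = (w : k) • log k p x := by
  rw [log, ← sub_eq_zero, show (1 + x) ^ w - 1 = aeval x ((1 + X) ^ w - 1 : k[X]) by simp,
    ← aeval_comp, log, Algebra.smul_def, ← aeval_C (R := k) x, ← map_mul, ← map_sub]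
  exact aeval_eq_zero_of_dvd hx (logPoly_pow w)

theorem log_conj {u : Rˣ} (hx : x ^ p = 0) {w : ℕ} (h : ↑u * (1 + x) * ↑u⁻¹ = (1 + x) ^ w) :
    ↑u * log k p x * ↑u⁻¹ = (w : k) • log k p x := by
  have hc : ∀ f : k[X], aeval (↑u * x * ↑u⁻¹) f = ↑u * aeval x f * ↑u⁻¹ := by
    intro f
    induction f using Polynomial.induction_on with
    | C a => rw [aeval_C, aeval_C, ← Algebra.commutes a (u : R), mul_assoc, Units.mul_inv, mul_one]
    | add a b ha hb => simp only [map_add, ha, hb, mul_add, add_mul]
    | monomial m a _ =>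
      simp only [map_mul, map_pow, aeval_C, aeval_X]
      rw [Units.conj_pow]
      rw [← mul_assoc, ← mul_assoc, ← mul_assoc, Algebra.commutes a (u : R)]
  rw [← log_pow hx, ← h, log, log, ← hc]
  congr 1
  rw [mul_add, mul_one, add_mul, Units.mul_inv, add_sub_cancel_left]

theorem exists_log_eq_mul :
    ∃ s : R, log k p x = x * s ∧ Commute x s ∧ (IsNilpotent x → 2 < p → IsUnit s) := by
  obtain ⟨q, hq⟩ := X_dvd_iff.2 (coeff_zero_logPoly (k := k) (p := p))
  refine ⟨aeval x q, by rw [log, hq, map_mul, aeval_X], ?_, fun hn hp2 => ?_⟩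
  · nth_rewrite 1 [← aeval_X (R := k) x]
    exact (Commute.all (X : k[X]) q).map (aeval x)
  · have hq0 : q.coeff 0 = 1 := by
      have h1 := congrArg (fun f : k[X] => f.coeff 1) hq
      simp only [coeff_X_mul] at h1
      rw [← h1, logPoly, finsetSum_coeff, Finset.sum_eq_single 0]
      · simp
      · intro b _ hb; rw [coeff_C_mul, coeff_X_pow, if_neg (by omega), mul_zero]
      · intro h; exact absurd (Finset.mem_range.2 (by omega)) h
    obtain ⟨r, hr⟩ := X_dvd_iff.2 (show (q - 1).coeff 0 = 0 by simp [hq0])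
    have : aeval x q = 1 + x * aeval x r := by
      rw [eq_add_of_sub_eq' hr, map_add, map_one, map_mul, aeval_X]
    rw [this]
    refine IsNilpotent.isUnit_one_add (Commute.isNilpotent_mul_right ?_ hn)
    nth_rewrite 1 [← aeval_X (R := k) x]
    exact (Commute.all (X : k[X]) r).map (aeval x)

theorem log_pow_eq_zero (hx : x ^ n = 0) : log k p x ^ n = 0 := by
  obtain ⟨s, hs, hc, -⟩ := exists_log_eq_mul (k := k) (p := p) (x := x)
  rw [hs, hc.mul_pow, hx, zero_mul]

theorem log_ne_zero (hx : IsNilpotent x) (hp2 : 2 < p) (h : x ≠ 0) : log k p x ≠ 0 := by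
  obtain ⟨s, hs, -, hu⟩ := exists_log_eq_mul (k := k) (p := p) (x := x)
  rw [hs]
  exact fun h0 => h ((hu hx hp2).mul_left_eq_zero.1 h0)

theorem aeval_mul_eq {l B C D : R} (hC : l * B = B * l + C) (hD : l * C = C * l + D)
    (hDc : l * D = D * l) (f : k[X]) (h2 : (2 : k) ≠ 0) :
    aeval l f * B = B * aeval l f + C * aeval l (derivative f) +
      (2 : k)⁻¹ • (D * aeval l (derivative (derivative f))) := by
  induction f using Polynomial.induction_on with
  | C a => simp [Algebra.commutes a B]
  | add a b ha hb => simp only [map_add, add_mul, ha, hb, mul_add, smul_add]; abel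
  | monomial m a ih =>
    rw [show Polynomial.C a * X ^ (m + 1) = X * (Polynomial.C a * X ^ m) by ring]
    generalize Polynomial.C a * X ^ m = f at ih ⊢
    have hd1 : derivative (X * f) = f + X * derivative f := by
      rw [derivative_mul, derivative_X, one_mul]
    rw [hd1, map_add derivative, derivative_mul, derivative_X, one_mul]
    simp only [map_add, map_mul, aeval_X]
    rw [mul_assoc l, ih, mul_add, mul_add, mul_smul_comm, ← mul_assoc l B, ← mul_assoc l C,
      ← mul_assoc l D, hC, hD, hDc]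
    have h2' : ∀ z : R, z = (2 : k)⁻¹ • (z + z) := fun z => by
      rw [← two_smul k z, smul_smul, inv_mul_cancel₀ h2, one_smul]
    simp only [mul_add, add_mul, ← mul_assoc, smul_add]
    conv_lhs => rw [h2' (D * aeval l (derivative f))]
    simp only [smul_add]
    abel

/-- Conjugation by `exp l` on an element killed by `(ad l) ^ 3`. -/
theorem one_add_mul_eq {B C D : R} (hp2 : 2 < p) (hx : x ^ (p - 2) = 0)
    (hC : log k p x * B = B * log k p x + C) (hD : log k p x * C = C * log k p x + D)
    (hDc : log k p x * D = D * log k p x) :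
    (1 + x) * B = (B + C + (2 : k)⁻¹ • D) * (1 + x) := by
  have hxp : x ^ p = 0 := pow_eq_zero_of_le (by omega) hx
  have hl : log k p x ^ (p - 2) = 0 := log_pow_eq_zero hx
  have h2 : (2 : k) ≠ 0 := by
    have := natCast_ne_zero_of_lt (k := k) (p := p) (i := 2) (by omega) hp2; simpa using this
  have e1 : aeval (log k p x) (derivative (expPoly k p)) = 1 + x := by
    rw [derivative_expPoly, map_sub, map_mul, map_pow, aeval_X, exp_log hxp,
      pow_eq_zero_of_le (by omega) hl, mul_zero, sub_zero]
  have e2 : aeval (log k p x) (derivative (derivative (expPoly k p))) = 1 + x := by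
    rw [derivative_expPoly, derivative_sub, derivative_C_mul_X_pow, map_sub, e1, map_mul, map_pow,
      aeval_X, show p - 1 - 1 = p - 2 by omega, hl, mul_zero, sub_zero]
  have := aeval_mul_eq hC hD hDc (expPoly k p) h2
  rw [e1, e2, exp_log hxp] at this
  rw [this, add_mul, add_mul, smul_mul_assoc]

end CfsgLib.SmallRep
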