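import Cfsg.Agent.Lib.SmallRep.Log

/-!
# A three-dimensional orthogonal summand of the adjoint module of a unipotent element

For a unipotent `A` of small degree normalised by a group `Q` of order prime to `p`, the adjoint
module has a three-dimensional summand, orthogonal for the trace form, stable under `A` and `Q`, on
which `A` is a single Jordan block.
-/

namespace CfsgLib.SmallRep

open Matrix

set_option linter.unusedSectionVars false

variable {k : Type*} [Field k] {f : ℕ}


section triple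

variable (l r : (Matrix (Fin f) (Fin f) k)) (n : ℕ)

/-- `l ^ i * r * l ^ j`. -/
noncomputable def mid (i j : ℕ) : (Matrix (Fin f) (Fin f) k) := l ^ i * r * l ^ j

/-- The fixed vector. -/
noncomputable def tA : (Matrix (Fin f) (Fin f) k) := ∑ i ∈ Finset.range n, mid l r (i + 1) (n - i)

/-- The top vector. -/
noncomputable def tF : (Matrix (Fin f) (Fin f) k) :=
  ∑ i ∈ Finset.range n, (((i : k) + 1) * ((n : k) - i)) • mid l r i (n - 1 - i)

variable {l r n}

theorem mul_mid (i j : ℕ) : l * mid l r i j = mid l r (i + 1) j := by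
  simp only [mid, ← mul_assoc, pow_succ']

theorem mid_mul (i j : ℕ) : mid l r i j * l = mid l r i (j + 1) := by
  simp only [mid, mul_assoc, pow_succ]

theorem mid_high (hl : l ^ (n + 1) = 0) {i j : ℕ} (h : n < i ∨ n < j) : mid l r i j = 0 := by
  rcases h with h | h
  · rw [mid, pow_eq_zero_of_le h hl, zero_mul, zero_mul]
  · rw [mid, pow_eq_zero_of_le h hl, mul_zero]

theorem commute_tA (hl : l ^ (n + 1) = 0) : l * tA l r n = tA l r n * l := by
  rw [← sub_eq_zero, tA, Finset.mul_sum, Finset.sum_mul, ← Finset.sum_sub_distrib]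
  rw [Finset.sum_congr rfl fun i hi => show l * mid l r (i + 1) (n - i) - mid l r (i + 1) (n - i) * l
      = mid l r (i + 1 + 1) (n + 1 - (i + 1)) - mid l r (i + 1) (n + 1 - i) by
    rw [mul_mid, mid_mul]; congr 2 <;> (have := Finset.mem_range.1 hi; omega),
    Finset.sum_range_sub (fun i => mid l r (i + 1) (n + 1 - i))]
  rw [mid_high hl (Or.inl (Nat.lt_succ_self n)), mid_high hl (Or.inr (by omega)), sub_zero]

theorem ad_sq_tF (hl : l ^ (n + 1) = 0) :
    l * (l * tF l r n - tF l r n * l) - (l * tF l r n - tF l r n * l) * l =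
      -((2 : k) • tA l r n) := by
  let G : ℕ → (Matrix (Fin f) (Fin f) k) := fun s => mid l r s (n + 1 - s)
  let φ : ℕ → (Matrix (Fin f) (Fin f) k) := fun s => ((s : k) * ((n : k) + 1 - s)) • G (s + 1) -
    (((s : k) + 1) * ((n : k) - s)) • G s
  have h0 : φ 0 = 0 := by
    have : G 0 = 0 := mid_high hl (Or.inr (by omega))
    simp [φ, this]
  have h1 : φ n = 0 := by
    have : G (n + 1) = 0 := mid_high hl (Or.inl (by omega))
    simp [φ, this]
  rw [eq_neg_iff_add_eq_zero, tA, tF, Finset.mul_sum, Finset.sum_mul, ← Finset.sum_sub_distrib,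
    Finset.mul_sum, Finset.sum_mul, ← Finset.sum_sub_distrib, Finset.smul_sum,
    ← Finset.sum_add_distrib]
  refine (Finset.sum_congr rfl fun i hi => ?_).trans
    ((Finset.sum_range_sub φ n).trans (by rw [h0, h1, sub_zero]))
  have := Finset.mem_range.1 hi
  simp only [mul_smul_comm, smul_mul_assoc, mul_sub, sub_mul, mul_mid, mid_mul, φ, G]
  rw [show n - 1 - i + 1 + 1 = n + 1 - i by omega, show n - 1 - i + 1 = n - i by omega,
    show n + 1 - (i + 1 + 1) = n - 1 - i by omega, show n + 1 - (i + 1) = n - i by omega]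
  push_cast
  module

theorem trace_mid_mul (hl : l ^ (n + 1) = 0) (hr : l ^ n * r * l ^ n = l ^ n) {i j : ℕ}
    (hi : i < n) (hj : j < n) :
    (mid l r (i + 1) (n - i) * mid l r j (n - 1 - j)).trace =
      if i = j then (r * l ^ n).trace else 0 := by
  have e : mid l r (i + 1) (n - i) * mid l r j (n - 1 - j) =
      l ^ (i + 1) * (r * (l ^ (n - i + j) * r * l ^ (n - 1 - j))) := by
    simp only [mid, pow_add, mul_assoc]
  rw [e, trace_mul_comm, mul_assoc r, mul_assoc (l ^ (n - i + j) * r), ← pow_add,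
    mul_assoc (l ^ (n - i + j))]
  rcases lt_trichotomy i j with h | h | h
  · rw [if_neg h.ne, pow_eq_zero_of_le (show n + 1 ≤ n - i + j by omega) hl, zero_mul, mul_zero,
      trace_zero]
  · rw [if_pos h, show n - i + j = n by omega, show n - 1 - j + (i + 1) = n by omega, ← mul_assoc,
      ← mul_assoc, mul_assoc r, mul_assoc r, hr]
  · rw [if_neg h.ne', pow_eq_zero_of_le (show n + 1 ≤ n - 1 - j + (i + 1) by omega) hl, mul_zero,
      mul_zero, mul_zero, trace_zero]

theorem trace_tA_tF (hl : l ^ (n + 1) = 0) (hr : l ^ n * r * l ^ n = l ^ n) :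
    (6 : k) * (tA l r n * tF l r n).trace =
      (n : k) * ((n : k) + 1) * ((n : k) + 2) * (r * l ^ n).trace := by
  have hs : ∀ j, (6 : k) * ∑ i ∈ Finset.range j, ((i : k) + 1) * ((n : k) - i) =
      (j : k) * ((j : k) + 1) * (3 * (n : k) - 2 * j + 2) := by
    intro j
    induction j with
    | zero => simp
    | succ j ih => rw [Finset.sum_range_succ, mul_add, ih]; push_cast; ring
  have hn := hs n
  rw [show (3 * (n : k) - 2 * n + 2) = n + 2 by ring] at hn
  rw [← hn, mul_assoc]
  congr 1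
  rw [tA, tF, Finset.sum_mul, trace_sum, Finset.sum_mul]
  refine Finset.sum_congr rfl fun i hi => ?_
  rw [Finset.mul_sum, trace_sum, Finset.sum_eq_single i]
  · rw [mul_smul_comm, trace_smul, trace_mid_mul hl hr (Finset.mem_range.1 hi)
      (Finset.mem_range.1 hi), if_pos rfl, smul_eq_mul]
  · intro j hj hne
    rw [mul_smul_comm, trace_smul, trace_mid_mul hl hr (Finset.mem_range.1 hi)
      (Finset.mem_range.1 hj), if_neg (Ne.symm hne), smul_zero]
  · exact fun h => absurd hi h

theorem conj_mid {u : (Matrix (Fin f) (Fin f) k)ˣ} {c d : k} (hl : u.val * l * (u⁻¹).val = c • l) (hr : u.val * r * (u⁻¹).val = d • r)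
    (i j : ℕ) : u.val * mid l r i j * (u⁻¹).val = (c ^ (i + j) * d) • mid l r i j := by
  have h : ∀ s : ℕ, u.val * l ^ s * (u⁻¹).val = c ^ s • l ^ s := fun s => by
    rw [← Units.conj_pow, hl, smul_pow]
  calc u.val * mid l r i j * (u⁻¹).val
      = (u.val * l ^ i * (u⁻¹).val) * (u.val * r * (u⁻¹).val) * (u.val * l ^ j * (u⁻¹).val) := by
        simp only [mid, mul_assoc, Units.inv_mul_cancel_left]
    _ = _ := by
        rw [h, h, hr]
        simp only [mid, smul_mul_assoc, mul_smul_comm, smul_smul, pow_add]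
        congr 1; ring

theorem conj_tA {u : (Matrix (Fin f) (Fin f) k)ˣ} {c d : k} (hl : u.val * l * (u⁻¹).val = c • l) (hr : u.val * r * (u⁻¹).val = d • r)
    (hcd : c ^ n * d = 1) : u.val * tA l r n * (u⁻¹).val = c • tA l r n := by
  simp only [tA, Finset.mul_sum, Finset.sum_mul, Finset.smul_sum]
  refine Finset.sum_congr rfl fun i hi => ?_
  have := Finset.mem_range.1 hi
  rw [conj_mid hl hr, show i + 1 + (n - i) = n + 1 by omega, pow_succ', mul_assoc, hcd, mul_one]

theorem conj_tF {u : (Matrix (Fin f) (Fin f) k)ˣ} {c d : k} (hl : u.val * l * (u⁻¹).val = c • l) (hr : u.val * r * (u⁻¹).val = d • r)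
    (hcd : c ^ n * d = 1) (hc : c ≠ 0) : u.val * tF l r n * (u⁻¹).val = c⁻¹ • tF l r n := by
  simp only [tF, Finset.mul_sum, Finset.sum_mul, Finset.smul_sum]
  refine Finset.sum_congr rfl fun i hi => ?_
  have := Finset.mem_range.1 hi
  have e : c ^ (n - 1) * d = c⁻¹ := by
    refine eq_inv_of_mul_eq_one_right ?_
    rw [← mul_assoc, ← pow_succ', Nat.sub_add_cancel (by omega), hcd]
  rw [mul_smul_comm, smul_mul_assoc, conj_mid hl hr, show i + (n - 1 - i) = n - 1 by omega, e,
    smul_comm]

end triple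

theorem exists_inner_inverse (M : (Matrix (Fin f) (Fin f) k)) : ∃ r, M * r * M = M := by
  obtain ⟨g, hg⟩ := (Matrix.toLin' M).rangeRestrict.exists_rightInverse_of_surjective
    (LinearMap.range_rangeRestrict _)
  obtain ⟨h, hh⟩ := LinearMap.exists_extend g
  refine ⟨LinearMap.toMatrix' h, Matrix.toLin'.injective ?_⟩
  refine LinearMap.ext fun v => ?_
  simp only [Matrix.toLin'_mul, Matrix.toLin'_toMatrix', LinearMap.comp_apply]
  have e1 : h (Matrix.toLin' M v) = g ((Matrix.toLin' M).rangeRestrict v) :=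
    LinearMap.congr_fun hh ((Matrix.toLin' M).rangeRestrict v)
  rw [e1]
  exact congrArg Subtype.val (LinearMap.congr_fun hg ((Matrix.toLin' M).rangeRestrict v))

theorem exists_nat_trace {e : (Matrix (Fin f) (Fin f) k)} (he : e * e = e) (h0 : e ≠ 0) :
    ∃ t : ℕ, t ≠ 0 ∧ t ≤ f ∧ e.trace = (t : k) := by
  have hi : IsIdempotentElem (Matrix.toLin' e) := by
    show Matrix.toLin' e * Matrix.toLin' e = _
    rw [Module.End.mul_eq_comp, ← Matrix.toLin'_mul, he]
  have hp' : LinearMap.IsProj (LinearMap.range (Matrix.toLin' e)) (Matrix.toLin' e) :=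
    ⟨fun x => LinearMap.mem_range_self _ x, by
      rintro _ ⟨y, rfl⟩; exact LinearMap.congr_fun hi y⟩
  refine ⟨Module.finrank k (LinearMap.range (Matrix.toLin' e)), ?_, ?_, ?_⟩
  · rw [Ne, Submodule.finrank_eq_zero, LinearMap.range_eq_bot]
    exact fun h => h0 (Matrix.toLin'.map_eq_zero_iff.1 h)
  · exact (Submodule.finrank_le _).trans (le_of_eq (Module.finrank_fin_fun k))
  · rw [← Matrix.trace_toLin'_eq]; exact hp'.trace

/-- The data of the three-dimensional summand. -/
structure Summand (A : (Matrix (Fin f) (Fin f) k)) (S : Set (Matrix (Fin f) (Fin f) k)ˣ) where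
  /-- the projection -/
  π : (Matrix (Fin f) (Fin f) k) →ₗ[k] (Matrix (Fin f) (Fin f) k)
  /-- the fixed vector -/
  a : (Matrix (Fin f) (Fin f) k)
  /-- the middle vector -/
  b : (Matrix (Fin f) (Fin f) k)
  /-- the top vector -/
  c : (Matrix (Fin f) (Fin f) k)
  fix_a : π a = a
  fix_b : π b = b
  fix_c : π c = c
  range_le : ∀ B, π B ∈ Submodule.span k ({a, b, c} : Set (Matrix (Fin f) (Fin f) k))
  adjoint : ∀ B D, (π B * D).trace = (B * π D).trace
  indep : LinearIndependent k ![a, b, c]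
  act_a : A * a = a * A
  act_b : A * b = (b - (2 : k) • a) * A
  act_c : A * c = (c + b - a) * A
  act_pi : ∀ B D, A * B = D * A → A * π B = π D * A
  comm : ∀ u ∈ S, ∀ B, π (u.val * B * (u⁻¹).val) = u.val * π B * (u⁻¹).val

variable {p : ℕ} [hp : Fact p.Prime] [CharP k p]

theorem exists_summand_aux {X l a b c : (Matrix (Fin f) (Fin f) k)} (hl : l = log k p X) (hX : X ^ (p - 2) = 0)
    (hp2 : 2 < p) (hb : b = l * c - c * l) (hbb : l * b - b * l = -((2 : k) • a))
    (hla : l * a = a * l) (hac : (a * c).trace ≠ 0) (hcc : (c * c).trace = 0) (S : Set (Matrix (Fin f) (Fin f) k)ˣ)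
    (hS : ∀ u ∈ S, ∃ w : k, w ≠ 0 ∧ u.val * a * (u⁻¹).val = w • a ∧ u.val * b * (u⁻¹).val = b ∧
      u.val * c * (u⁻¹).val = w⁻¹ • c) : Nonempty (Summand (1 + X) S) := by
  have h2 : (2 : k) ≠ 0 := by
    have := natCast_ne_zero_of_lt (k := k) (p := p) (i := 2) (by omega) hp2; simpa using this
  have had : ∀ u v : (Matrix (Fin f) (Fin f) k), ((l * u - u * l) * v).trace = -(u * (l * v - v * l)).trace := by
    intro u v
    rw [sub_mul, mul_sub, trace_sub, trace_sub, mul_assoc l, trace_mul_comm l]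
    simp only [mul_assoc]; ring
  have hla0 : l * a - a * l = 0 := sub_eq_zero.2 hla
  have h2a : (2 : k) • a = -(l * b - b * l) := by rw [hbb, neg_neg]
  have haa : (a * a).trace = 0 := by
    have : ((2 : k) • a * a).trace = 0 := by
      rw [h2a, neg_mul, trace_neg, had, hla0, mul_zero, trace_zero, neg_zero, neg_zero]
    rw [smul_mul_assoc, trace_smul, smul_eq_mul] at this
    exact (mul_eq_zero.1 this).resolve_left h2
  have hab : (a * b).trace = 0 := by
    rw [trace_mul_comm, hb, had, hla0, mul_zero, trace_zero, neg_zero]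
  have hbc : (b * c).trace = 0 := by
    have h1 := had c c
    rw [← hb, trace_mul_comm c b] at h1
    have : (2 : k) * (b * c).trace = 0 := by linear_combination h1
    exact (mul_eq_zero.1 this).resolve_left h2
  have hbb' : (b * b).trace = 2 * (a * c).trace := by
    nth_rewrite 1 [hb]
    rw [had, hbb, mul_neg, trace_neg, neg_neg, mul_smul_comm, trace_smul, smul_eq_mul,
      trace_mul_comm]
  set d := (a * c).trace with hd
  have h2d : (2 * d) ≠ 0 := mul_ne_zero h2 hac
  let π : (Matrix (Fin f) (Fin f) k) →ₗ[k] (Matrix (Fin f) (Fin f) k) :=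
    { toFun := fun B => (d⁻¹ * (B * c).trace) • a + ((2 * d)⁻¹ * (B * b).trace) • b +
        (d⁻¹ * (B * a).trace) • c
      map_add' := fun B D => by simp only [add_mul, trace_add, mul_add, add_smul]; abel
      map_smul' := fun r B => by
        simp only [smul_mul_assoc, trace_smul, smul_eq_mul, RingHom.id_apply, smul_add, smul_smul]
        congr 2 <;> ring_nf }
  have hπ : ∀ B, π B = (d⁻¹ * (B * c).trace) • a + ((2 * d)⁻¹ * (B * b).trace) • b +
      (d⁻¹ * (B * a).trace) • c := fun B => rfl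
  have hba : (b * a).trace = 0 := by rw [trace_mul_comm, hab]
  have hca : (c * a).trace = d := by rw [trace_mul_comm]
  have hcb : (c * b).trace = 0 := by rw [trace_mul_comm, hbc]
  have hAA : IsUnit (1 + X) := IsNilpotent.isUnit_one_add ⟨_, hX⟩
  have actA : (1 + X) * a = a * (1 + X) := by
    have := one_add_mul_eq (k := k) (p := p) (B := a) (C := 0) (D := 0) hp2 hX
      (by rw [← hl, add_zero, hla]) (by simp) (by simp)
    simpa using this
  have actB : (1 + X) * b = (b - (2 : k) • a) * (1 + X) := by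
    have := one_add_mul_eq (k := k) (p := p) (B := b) (C := -((2 : k) • a)) (D := 0) hp2 hX
      (by rw [← hl, ← hbb]; abel)
      (by rw [← hl, add_zero, mul_neg, neg_mul, mul_smul_comm, smul_mul_assoc, hla]) (by simp)
    simpa [sub_eq_add_neg] using this
  have actC : (1 + X) * c = (c + b - a) * (1 + X) := by
    have := one_add_mul_eq (k := k) (p := p) (B := c) (C := b) (D := -((2 : k) • a)) hp2 hX
      (by rw [← hl, hb]; abel) (by rw [← hl, ← hbb]; abel)
      (by rw [← hl, mul_neg, neg_mul, mul_smul_comm, smul_mul_assoc, hla])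
    rw [smul_neg, smul_smul, inv_mul_cancel₀ h2, one_smul, ← sub_eq_add_neg] at this
    exact this
  refine ⟨⟨π, a, b, c, ?_, ?_, ?_, ?_, ?_, ?_, actA, actB, actC, ?_, ?_⟩⟩
  · rw [hπ, haa, hab, mul_zero, mul_zero, zero_smul, zero_smul, add_zero, add_zero, ← hd,
      inv_mul_cancel₀ hac, one_smul]
  · rw [hπ, hba, hbc, hbb', mul_zero, zero_smul, zero_smul, add_zero, zero_add,
      inv_mul_cancel₀ h2d, one_smul]
  · rw [hπ, hcc, hcb, hca, mul_zero, mul_zero, zero_smul, zero_smul, zero_add, zero_add,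
      inv_mul_cancel₀ hac, one_smul]
  · intro B
    rw [hπ]
    exact Submodule.add_mem _ (Submodule.add_mem _
      (Submodule.smul_mem _ _ (Submodule.subset_span (by simp)))
      (Submodule.smul_mem _ _ (Submodule.subset_span (by simp))))
      (Submodule.smul_mem _ _ (Submodule.subset_span (by simp)))
  · intro B D
    simp only [hπ, add_mul, mul_add, smul_mul_assoc, mul_smul_comm, trace_add, trace_smul,
      smul_eq_mul]
    rw [trace_mul_comm a D, trace_mul_comm b D, trace_mul_comm c D]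
    ring
  · rw [Fintype.linearIndependent_iff]
    intro g hg
    simp only [Fin.sum_univ_three, Matrix.cons_val] at hg
    have e1 := congrArg (fun z : (Matrix (Fin f) (Fin f) k) => (z * a).trace) hg
    have e2 := congrArg (fun z : (Matrix (Fin f) (Fin f) k) => (z * b).trace) hg
    have e3 := congrArg (fun z : (Matrix (Fin f) (Fin f) k) => (z * c).trace) hg
    simp only [add_mul, smul_mul_assoc, trace_add, trace_smul, smul_eq_mul, zero_mul, trace_zero,
      haa, hba, hca, hab, hbb', hcb, ← hd, hbc, hcc, mul_zero, add_zero, zero_add] at e1 e2 e3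
    intro i
    fin_cases i
    · exact (mul_eq_zero.1 e3).resolve_right hac
    · exact (mul_eq_zero.1 e2).resolve_right h2d
    · exact (mul_eq_zero.1 e1).resolve_right hac
  · intro B D h
    have htr : ∀ v w : (Matrix (Fin f) (Fin f) k), (1 + X) * v = w * (1 + X) → (D * w).trace = (B * v).trace := by
      intro v w hvw
      obtain ⟨U, hU⟩ := hAA
      rw [← hU] at h hvw
      have eD : D = U.val * B * (U⁻¹).val := by rw [h, mul_assoc, Units.mul_inv, mul_one]
      have ew : w = U.val * v * (U⁻¹).val := by rw [hvw, mul_assoc, Units.mul_inv, mul_one]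
      rw [eD, ew, show U.val * B * (U⁻¹).val * (U.val * v * (U⁻¹).val) = U.val * (B * v) * (U⁻¹).val by
        simp only [mul_assoc, Units.inv_mul_cancel_left], trace_units_conj]
    have t1 := htr a a actA
    have t2 := htr b _ actB
    have t3 := htr c _ actC
    simp only [mul_sub, mul_add, mul_smul_comm, trace_sub, trace_add, trace_smul, smul_eq_mul,
      t1] at t2 t3
    have u2 : (D * b).trace = (B * b).trace + 2 * (B * a).trace := by linear_combination t2
    have u3 : (D * c).trace = (B * c).trace - (B * b).trace - (B * a).trace := by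
      linear_combination t3 - u2
    simp only [hπ, mul_add, mul_smul_comm, actA, actB, actC, t1, u2, u3]
    simp only [add_mul, sub_mul, smul_mul_assoc]
    have e : (d⁻¹ : k) = 2 * (2 * d)⁻¹ := by
      rw [mul_inv, ← mul_assoc, mul_inv_cancel₀ h2, one_mul]
    rw [e]
    module
  · intro u hu B
    obtain ⟨w, hw0, hwa, hwb, hwc⟩ := hS u hu
    have htr : ∀ v : (Matrix (Fin f) (Fin f) k), (u.val * B * (u⁻¹).val * (u.val * v * (u⁻¹).val)).trace = (B * v).trace := fun v => by
      rw [show u.val * B * (u⁻¹).val * (u.val * v * (u⁻¹).val) = u.val * (B * v) * (u⁻¹).val by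
        simp only [mul_assoc, Units.inv_mul_cancel_left], trace_units_conj]
    have t1 := htr a
    have t2 := htr b
    have t3 := htr c
    rw [hwa, mul_smul_comm, trace_smul, smul_eq_mul] at t1
    rw [hwb] at t2
    rw [hwc, mul_smul_comm, trace_smul, smul_eq_mul] at t3
    simp only [hπ, mul_add, add_mul, mul_smul_comm, smul_mul_assoc, hwa, hwb, hwc, smul_smul, t2,
      ← t1, ← t3]
    congr 2
    · congr 1; field_simp
    · field_simp

/-- Existence of the summand. -/
theorem exists_summand {X : (Matrix (Fin f) (Fin f) k)} (hX0 : X ≠ 0) (hXf : X ^ f = 0) (hf : 2 * f < p)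
    {Q : Type*} [Group Q] [Finite Q] (hQ : ¬ p ∣ Nat.card Q) (ρ : Q →* (Matrix (Fin f) (Fin f) k)ˣ) (w : Q → ℕ)
    (hw : ∀ q, (ρ q).val * (1 + X) * ((ρ q)⁻¹).val = (1 + X) ^ w q) :
    Nonempty (Summand (1 + X) (Set.range ρ)) := by
  haveI := Fintype.ofFinite Q
  set l := log k p X with hl
  have hf2 : 2 ≤ f := by
    rcases Nat.lt_or_ge f 2 with h | h
    · exfalso; apply hX0
      simpa using pow_eq_zero_of_le (show f ≤ 1 by omega) hXf
    · exact h
  have hXp : X ^ p = 0 := pow_eq_zero_of_le (by omega) hXf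
  have hlf : l ^ f = 0 := log_pow_eq_zero hXf
  have hl0 : l ≠ 0 := log_ne_zero ⟨f, hXf⟩ (by omega) hX0
  classical
  obtain ⟨n, hn1, hnf, hln, hN⟩ : ∃ n, 1 ≤ n ∧ n + 1 ≤ f ∧ l ^ (n + 1) = 0 ∧ l ^ n ≠ 0 := by
    have hex : ∃ j, l ^ (j + 1) = 0 := ⟨f - 1, by rw [Nat.sub_add_cancel (by omega)]; exact hlf⟩
    refine ⟨Nat.find hex, ?_, ?_, Nat.find_spec hex, ?_⟩
    · by_contra h
      have h1 := Nat.find_spec hex
      rw [show Nat.find hex = 0 by omega, zero_add, pow_one] at h1
      exact hl0 h1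
    · have := Nat.find_le (h := hex) (n := f - 1) (by rw [Nat.sub_add_cancel (by omega)]; exact hlf)
      omega
    · intro h
      rcases Nat.eq_zero_or_pos (Nat.find hex) with h0 | h0
      · rw [h0, pow_zero] at h
        exact hl0 (by rw [← mul_one l, h, mul_zero])
      · exact Nat.find_min hex (Nat.sub_lt h0 one_pos) (by rwa [Nat.sub_add_cancel (Nat.one_le_of_lt h0)])
  have hconj : ∀ q, (ρ q).val * l * ((ρ q)⁻¹).val = (w q : k) • l := fun q => log_conj hXp (hw q)
  let c : Q → k := fun q => (w q : k)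
  have hcmul : ∀ q q', c (q * q') = c q * c q' := by
    intro q q'
    refine smul_left_injective k hl0 ?_
    show c (q * q') • l = (c q * c q') • l
    have e := hconj (q * q')
    rw [map_mul, _root_.mul_inv_rev, Units.val_mul, Units.val_mul,
      show (ρ q).val * (ρ q').val * l * (((ρ q')⁻¹).val * ((ρ q)⁻¹).val) =
        (ρ q).val * ((ρ q').val * l * ((ρ q')⁻¹).val) * ((ρ q)⁻¹).val by simp only [mul_assoc],
      hconj, mul_smul_comm, smul_mul_assoc, hconj, smul_smul] at e
    rw [← e, mul_comm]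
  have hc1 : c 1 = 1 := by
    refine smul_left_injective k hl0 ?_
    show c 1 • l = (1 : k) • l
    rw [← hconj 1, map_one, inv_one, Units.val_one, one_mul, mul_one, one_smul]
  have hc0 : ∀ q, c q ≠ 0 := fun q h => by
    have := hcmul q q⁻¹
    rw [h, zero_mul, mul_inv_cancel, hc1] at this
    exact one_ne_zero this
  obtain ⟨r₀, hr₀⟩ := exists_inner_inverse (l ^ n)
  have hcard : (Fintype.card Q : k) ≠ 0 := by
    rw [Ne, CharP.cast_eq_zero_iff k p, ← Nat.card_eq_fintype_card]; exact hQ
  set r : (Matrix (Fin f) (Fin f) k) := (Fintype.card Q : k)⁻¹ • ∑ q : Q, c q ^ n • ((ρ q).val * r₀ * ((ρ q)⁻¹).val) with hr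
  have hNq : ∀ q, (ρ q).val * l ^ n * ((ρ q)⁻¹).val = c q ^ n • l ^ n := fun q => by
    rw [← Units.conj_pow, hconj, smul_pow]
  have hrN : l ^ n * r * l ^ n = l ^ n := by
    rw [hr, mul_smul_comm, smul_mul_assoc, Finset.mul_sum, Finset.sum_mul,
      Finset.sum_congr rfl fun q _ => show l ^ n * (c q ^ n • ((ρ q).val * r₀ * ((ρ q)⁻¹).val)) * l ^ n
        = l ^ n by
        have hs : l ^ n = (c q ^ n)⁻¹ • ((ρ q).val * l ^ n * ((ρ q)⁻¹).val) := by
          rw [hNq, smul_smul, inv_mul_cancel₀ (pow_ne_zero _ (hc0 q)), one_smul]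
        nth_rewrite 1 2 [hs]
        simp only [smul_mul_assoc, mul_smul_comm, smul_smul]
        rw [show ((ρ q).val * l ^ n * ((ρ q)⁻¹).val) * ((ρ q).val * r₀ * ((ρ q)⁻¹).val) *
            ((ρ q).val * l ^ n * ((ρ q)⁻¹).val) = (ρ q).val * (l ^ n * r₀ * l ^ n) * ((ρ q)⁻¹).val by
          simp only [mul_assoc, Units.inv_mul_cancel_left], hr₀, hNq, smul_smul]
        have := pow_ne_zero n (hc0 q)
        field_simp
        simp,
      Finset.sum_const, Finset.card_univ, ← Nat.cast_smul_eq_nsmul k, smul_smul,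
      inv_mul_cancel₀ hcard, one_smul]
  have hrq : ∀ q, (ρ q).val * r * ((ρ q)⁻¹).val = (c q ^ n)⁻¹ • r := fun q => by
    rw [hr, mul_smul_comm, smul_mul_assoc, smul_comm, Finset.mul_sum, Finset.sum_mul]
    congr 1
    rw [Finset.smul_sum]
    refine Fintype.sum_equiv (Equiv.mulLeft q) _ _ fun s => ?_
    simp only [Equiv.coe_mulLeft, hcmul, mul_pow, smul_smul, mul_smul_comm, smul_mul_assoc]
    rw [map_mul, _root_.mul_inv_rev, Units.val_mul, Units.val_mul, ← mul_assoc (c q ^ n)⁻¹,
      inv_mul_cancel₀ (pow_ne_zero _ (hc0 q)), one_mul]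
    simp only [mul_assoc]
  have hcd : ∀ q, c q ^ n * (c q ^ n)⁻¹ = 1 := fun q => mul_inv_cancel₀ (pow_ne_zero _ (hc0 q))
  obtain ⟨t, ht0, htf, htr⟩ := exists_nat_trace (e := r * l ^ n)
    (by rw [mul_assoc, ← mul_assoc (l ^ n), hrN])
    (fun h => hN (by rw [← hrN, mul_assoc, h, mul_zero]))
  set A₀ := tA l r n with hA₀
  set F₀ := tF l r n with hF₀
  have hac : (A₀ * F₀).trace ≠ 0 := fun h0 => by
    have := trace_tA_tF hln hrN
    rw [h0, mul_zero, htr, eq_comm, mul_eq_zero, mul_eq_zero, mul_eq_zero] at this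
    rcases this with ((h | h) | h) | h
    · exact natCast_ne_zero_of_lt (k := k) (p := p) (i := n) (by omega) (by omega) h
    · exact natCast_ne_zero_of_lt (k := k) (p := p) (i := n + 1) (by omega) (by omega)
        (by push_cast; exact h)
    · exact natCast_ne_zero_of_lt (k := k) (p := p) (i := n + 2) (by omega) (by omega)
        (by push_cast; exact h)
    · exact natCast_ne_zero_of_lt (k := k) (p := p) (i := t) ht0 (by omega) h
  have hlA : l * A₀ = A₀ * l := commute_tA hln
  set F : (Matrix (Fin f) (Fin f) k) := F₀ - ((2 : k)⁻¹ * (F₀ * F₀).trace / (A₀ * F₀).trace) • A₀ with hF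
  have h2 : (2 : k) ≠ 0 := by
    have := natCast_ne_zero_of_lt (k := k) (p := p) (i := 2) (by omega) (by omega); simpa using this
  have hFF : l * F - F * l = l * F₀ - F₀ * l := by
    rw [hF, mul_sub, sub_mul, mul_smul_comm, smul_mul_assoc, hlA]; abel
  have hsq := ad_sq_tF (r := r) hln
  have haa : (A₀ * A₀).trace = 0 := by
    have e : (((2 : k) • A₀) * A₀).trace = 0 := by
      rw [show (2 : k) • A₀ = -(l * (l * F₀ - F₀ * l) - (l * F₀ - F₀ * l) * l) by
        rw [hsq, neg_neg], neg_mul, trace_neg, sub_mul, trace_sub, mul_assoc l,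
        trace_mul_comm l, mul_assoc, mul_assoc, ← hlA, sub_self, neg_zero]
    rw [smul_mul_assoc, trace_smul, smul_eq_mul] at e
    exact (mul_eq_zero.1 e).resolve_left h2
  refine exists_summand_aux (l := l) (a := A₀) (b := l * F - F * l) (c := F) rfl
    (pow_eq_zero_of_le (by omega) hXf) (by omega) rfl (by rw [hFF]; exact hsq) hlA ?_ ?_ _ ?_
  · rw [hF, mul_sub, mul_smul_comm, trace_sub, trace_smul, haa, smul_zero, sub_zero]; exact hac
  · rw [hF]
    simp only [mul_sub, sub_mul, mul_smul_comm, smul_mul_assoc, trace_sub, trace_smul, smul_eq_mul,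
      haa, mul_zero, sub_zero, trace_mul_comm F₀ A₀]
    field_simp
    ring
  · rintro _ ⟨q, rfl⟩
    have ea := conj_tA (hconj q) (hrq q) (hcd q)
    have ec := conj_tF (hconj q) (hrq q) (hcd q) (hc0 q)
    have hFc : (ρ q).val * F * ((ρ q)⁻¹).val = (c q)⁻¹ • F := by
      rw [hF, mul_sub, sub_mul, mul_smul_comm, smul_mul_assoc, hA₀, ea, hF₀, ec, ← hA₀, ← hF₀,
        smul_sub, smul_smul, smul_smul]
      rcases eq_or_ne (F₀ * F₀).trace 0 with h0 | h0
      · simp [h0, c]
      · have e : ((ρ q).val * (F₀ * F₀) * ((ρ q)⁻¹).val).trace = (F₀ * F₀).trace := trace_units_conj _ _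
        rw [show (ρ q).val * (F₀ * F₀) * ((ρ q)⁻¹).val =
            ((ρ q).val * F₀ * ((ρ q)⁻¹).val) * ((ρ q).val * F₀ * ((ρ q)⁻¹).val) by
          simp only [mul_assoc, Units.inv_mul_cancel_left], hF₀, ec, ← hF₀, smul_mul_assoc,
          mul_smul_comm, smul_smul, trace_smul, smul_eq_mul] at e
        have e' : (c q)⁻¹ * (c q)⁻¹ = 1 := mul_right_cancel₀ h0 (e.trans (one_mul _).symm)
        have e'' : (c q)⁻¹ = c q := (eq_inv_of_mul_eq_one_left e').trans (inv_inv _)
        rw [e'', mul_comm (c q)]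
    refine ⟨c q, hc0 q, ea, ?_, hFc⟩
    rw [mul_sub, sub_mul,
      show (ρ q).val * (l * F) * ((ρ q)⁻¹).val = ((ρ q).val * l * ((ρ q)⁻¹).val) * ((ρ q).val * F * ((ρ q)⁻¹).val) by
        simp only [mul_assoc, Units.inv_mul_cancel_left],
      show (ρ q).val * (F * l) * ((ρ q)⁻¹).val = ((ρ q).val * F * ((ρ q)⁻¹).val) * ((ρ q).val * l * ((ρ q)⁻¹).val) by
        simp only [mul_assoc, Units.inv_mul_cancel_left], hFc, hconj]
    simp only [smul_mul_assoc, mul_smul_comm, smul_smul, c]
    rw [inv_mul_cancel₀ (hc0 q), mul_inv_cancel₀ (hc0 q), one_smul, one_smul]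

end CfsgLib.SmallRep
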